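import Cfsg.Agent.Lib.Char.CliffordCorr
import Cfsg.Agent.Lib.Char.RamifiedFrobenius
import Cfsg.Agent.Lib.CharDeep.Glauberman.Gallagher
import Mathlib.LinearAlgebra.Dimension.Constructions
import Mathlib.LinearAlgebra.FiniteDimensional.Basic
import Mathlib.GroupTheory.Sylow

/-!
# Characters overChars an invariant character of a normal subgroup, with few of them

`π : Γ →* R` is surjective with kernel `C` and `θ` is an invariant irreducible character of `C`.
An element of `R` is regular if some character overChars `θ` is nonzero on its coset.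
-/

set_option autoImplicit false
set_option linter.style.haveILetI false
set_option linter.unusedSectionVars false
set_option maxHeartbeats 1000000

namespace CfsgLib.Blocks.HeightZeroThree

open Cfsg CfsgLib.Char
open scoped Classical ComplexConjugate

section Basics

variable {Γ : Type*} [Group Γ] [Fintype Γ] {C : Subgroup Γ} [hCn : C.Normal] [Fintype C]
  {θ : C → ℂ}

/-- The irreducible characters lying over `θ`. -/
noncomputable def overChars (θ : C → ℂ) : Finset (IrrCharacter Γ) :=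
  Finset.univ.filter fun ψ => classInner (fun c : C => (ψ : Γ → ℂ) c) θ ≠ 0

theorem mem_overChars {ψ : IrrCharacter Γ} :
    ψ ∈ overChars θ ↔ classInner (fun c : C => (ψ : Γ → ℂ) c) θ ≠ 0 := by
  simp [overChars]

theorem exists_res_eq (hθ : IsIrrCharacter C θ) (hinv : ∀ g : Γ, conjG θ g = θ)
    {ψ : IrrCharacter Γ} (hψ : ψ ∈ overChars θ) :
    ∃ e : ℕ, e ≠ 0 ∧ classInner (fun c : C => (ψ : Γ → ℂ) c) θ = e ∧
      ∀ c : C, (ψ : Γ → ℂ) c = (e : ℂ) * θ c := by
  obtain ⟨e, he⟩ := IsCharacter.classInner_nat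
    (IsCharacter.restrict (isCharacter_irr ψ) C) (IsIrrCharacter.isCharacter hθ)
  have hne := mem_overChars.1 hψ
  refine ⟨e, fun h0 => hne (by rw [he, h0, Nat.cast_zero]), he, fun c => ?_⟩
  have h := congrFun (restrict_eq_smul_orbit ψ.2 hθ hne) c
  have hset : {φ : C → ℂ | ∃ g : Γ, φ = conjG θ g} = {θ} := by
    ext φ
    simp [hinv]
  rw [hset, finsum_mem_singleton, he] at h
  exact h

theorem sum_mult (hθ : IsIrrCharacter C θ) :
    indFun C θ = ∑ ψ ∈ overChars θ, classInner (fun c : C => (ψ : Γ → ℂ) c) θ • (ψ : Γ → ℂ) := by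
  conv_lhs => rw [IsClassFunction.eq_sum_irr (indFun_isClassFunction C θ)]
  symm
  rw [overChars, Finset.sum_filter]
  refine Finset.sum_congr rfl fun ψ _ => ?_
  have h : classInner (indFun C θ) (ψ : Γ → ℂ) = classInner (fun c : C => (ψ : Γ → ℂ) c) θ := by
    rw [classInner_indFun C θ (IsIrrCharacter.isClassFunction ψ.2),
      IsCharacter.classInner_comm (IsIrrCharacter.isCharacter hθ)
        (IsCharacter.restrict (isCharacter_irr ψ) C)]
  rw [h]
  split_ifs with h0
  · rfl
  · rw [not_not.1 h0, zero_smul]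

/-- The squares of the multiplicities sum to the index. -/
theorem exists_sum_sq (hθ : IsIrrCharacter C θ) (hinv : ∀ g : Γ, conjG θ g = θ) :
    ∃ e : IrrCharacter Γ → ℕ, (∀ ψ ∈ overChars θ, e ψ ≠ 0 ∧ ∀ c : C, (ψ : Γ → ℂ) c = (e ψ : ℂ) * θ c) ∧
      ∑ ψ ∈ overChars θ, e ψ ^ 2 = C.index := by
  choose e he0 he hres using fun ψ : overChars (Γ := Γ) θ => exists_res_eq hθ hinv ψ.2
  let f : IrrCharacter Γ → ℕ := fun ψ => if h : ψ ∈ overChars θ then e ⟨ψ, h⟩ else 0
  have hf : ∀ ψ (h : ψ ∈ overChars θ), f ψ = e ⟨ψ, h⟩ := fun ψ h => dif_pos h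
  refine ⟨f, fun ψ h => ⟨by rw [hf ψ h]; exact he0 _, fun c => by rw [hf ψ h]; exact hres ⟨ψ, h⟩ c⟩, ?_⟩
  have h1 := congrFun (sum_mult (Γ := Γ) hθ) 1
  rw [indFun_one, Finset.sum_apply] at h1
  have h2 : ((C.index : ℕ) : ℂ) * θ 1 = ((∑ ψ ∈ overChars θ, f ψ ^ 2 : ℕ) : ℂ) * θ 1 := by
    rw [h1]
    push_cast
    rw [Finset.sum_mul]
    refine Finset.sum_congr rfl fun ψ hψ => ?_
    have h3 := hres ⟨ψ, hψ⟩ 1
    rw [Subgroup.coe_one] at h3
    rw [Pi.smul_apply, smul_eq_mul, he ⟨ψ, hψ⟩, h3, hf ψ hψ]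
    ring
  exact_mod_cast (mul_right_cancel₀ (IsIrrCharacter.apply_one_ne_zero hθ) h2).symm

theorem overChars_nonempty (hθ : IsIrrCharacter C θ) (hinv : ∀ g : Γ, conjG θ g = θ) :
    (overChars (Γ := Γ) θ).Nonempty := by
  obtain ⟨e, -, he⟩ := exists_sum_sq (Γ := Γ) hθ hinv
  rw [Finset.nonempty_iff_ne_empty]
  intro h0
  rw [h0, Finset.sum_empty] at he
  exact Subgroup.index_ne_zero_of_finite he.symm

/-- With one character over `θ` the index is a square. -/
theorem isSquare_index (hθ : IsIrrCharacter C θ) (hinv : ∀ g : Γ, conjG θ g = θ)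
    (h1 : (overChars (Γ := Γ) θ).card ≤ 1) : ∃ e : ℕ, e ≠ 0 ∧ C.index = e ^ 2 := by
  obtain ⟨e, he0, he⟩ := exists_sum_sq (Γ := Γ) hθ hinv
  obtain ⟨ψ, hψ⟩ := overChars_nonempty (Γ := Γ) hθ hinv
  have hs : overChars θ = {ψ} := Finset.eq_singleton_iff_unique_mem.2
    ⟨hψ, fun φ hφ => Finset.card_le_one.1 h1 φ hφ ψ hψ⟩
  rw [hs, Finset.sum_singleton] at he
  exact ⟨e ψ, (he0 ψ hψ).1, he.symm⟩

/-- The span of the characters over `θ`. -/
noncomputable def overSpan (θ : C → ℂ) : Submodule ℂ (Γ → ℂ) :=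
  Submodule.span ℂ ↑(Finset.image (fun ψ : IrrCharacter Γ => (ψ : Γ → ℂ)) (overChars θ))

theorem mem_overSpan {f : Γ → ℂ} (hf : IsClassFunction Γ f)
    (h : ∀ φ : IrrCharacter Γ, φ ∉ overChars θ → classInner f (φ : Γ → ℂ) = 0) : f ∈ overSpan θ := by
  rw [IsClassFunction.eq_sum_irr hf]
  refine Submodule.sum_mem _ fun φ _ => ?_
  by_cases hφ : φ ∈ overChars θ
  · exact Submodule.smul_mem _ _ (Submodule.subset_span (Finset.mem_image_of_mem _ hφ))
  · rw [h φ hφ, zero_smul]
    exact Submodule.zero_mem _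

/-- A character with a constituent over `θ` meets `θ`. -/
theorem classInner_ne_zero_of_constituent {χ φ : Γ → ℂ}
    (hχ : IsCharacter Γ χ) (hφ : IsIrrCharacter Γ φ) (h : classInner χ φ ≠ 0)
    {η : C → ℂ} (hη : IsIrrCharacter C η) (hne : classInner (fun c : C => φ c) η ≠ 0) :
    classInner (fun c : C => χ c) η ≠ 0 := by
  obtain ⟨a, ha⟩ := IsCharacter.classInner_nat
    (IsCharacter.restrict (IsIrrCharacter.isCharacter hφ) C) (IsIrrCharacter.isCharacter hη)
  obtain ⟨b, hb⟩ := IsCharacter.classInner_nat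
    (IsCharacter.restrict (CfsgLib.CharDeep.Clifford.isCharacter_sub_of_constituent hχ hφ h) C)
    (IsIrrCharacter.isCharacter hη)
  have e : (fun c : C => χ c) = (fun c : C => (χ - φ) c) + fun c : C => φ c := by
    funext c; simp
  rw [e, classInner_add_left, ha, hb, ← Nat.cast_add, Nat.cast_ne_zero]
  intro h0
  exact hne (by rw [ha, show a = 0 by omega, Nat.cast_zero])

end Basics

section Quotient

variable {Γ : Type*} [Group Γ] [Fintype Γ] {C : Subgroup Γ} [hCn : C.Normal] [Fintype C]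
  {θ : C → ℂ} {R : Type*} [Group R] [Fintype R] {π : Γ →* R}

/-- Multiplying by a class function of the quotient stays in the span. -/
theorem mul_mem_overSpan (hker : π.ker = C)
    (hθ : IsIrrCharacter C θ) (hinv : ∀ g : Γ, conjG θ g = θ) {q : R → ℂ}
    (hq : IsClassFunction R q) {ψ : IrrCharacter Γ} (hψ : ψ ∈ overChars θ) :
    (fun g => q (π g) * (ψ : Γ → ℂ) g) ∈ overSpan θ := by
  have hlin : (fun g => q (π g) * (ψ : Γ → ℂ) g)
      = ∑ β : IrrCharacter R, classInner q (β : R → ℂ) • ((ψ : Γ → ℂ) * ((β : R → ℂ) ∘ π)) := by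
    funext g
    conv_lhs => rw [IsClassFunction.eq_sum_irr hq]
    simp only [Finset.sum_apply, Pi.smul_apply, smul_eq_mul, Pi.mul_apply, Function.comp_apply,
      Finset.sum_mul]
    exact Finset.sum_congr rfl fun β _ => by ring
  rw [hlin]
  refine Submodule.sum_mem _ fun β _ => Submodule.smul_mem _ _ ?_
  have hch : IsCharacter Γ ((ψ : Γ → ℂ) * ((β : R → ℂ) ∘ π)) :=
    IsCharacter.mul (isCharacter_irr ψ) (IsCharacter.comp (isCharacter_irr β) π)
  refine mem_overSpan (IsCharacter.isClassFunction hch) fun φ hφ => ?_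
  by_contra hne
  obtain ⟨e, -, -, hres⟩ := exists_res_eq hθ hinv hψ
  have hr : (fun c : C => ((ψ : Γ → ℂ) * ((β : R → ℂ) ∘ π)) c)
      = ((e : ℂ) * (β : R → ℂ) 1) • θ := by
    funext c
    have hc : π c = 1 := by
      have : (c : Γ) ∈ π.ker := by rw [hker]; exact c.2
      exact this
    simp only [Pi.mul_apply, Function.comp_apply, hc, hres, Pi.smul_apply, smul_eq_mul]
    ring
  obtain ⟨η, hη, hηne⟩ := IsCharacter.exists_constituent
    (IsCharacter.restrict (isCharacter_irr φ) C) fun h0 => by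
      have := congrFun h0 1
      simp only [Subgroup.coe_one, Pi.zero_apply] at this
      exact IsIrrCharacter.apply_one_ne_zero φ.2 this
  have h2 := classInner_ne_zero_of_constituent hch φ.2 hne hη hηne
  rw [hr, classInner_smul_left] at h2
  have : θ = η := by
    by_contra hc
    exact h2 (by rw [classInner_irr_ne hθ hη hc, mul_zero])
  exact hφ (mem_overChars.2 (this ▸ hηne))

/-- Some character over `θ` is nonzero on the coset of `x`. -/
def RegCoset (θ : C → ℂ) (π : Γ →* R) (x : R) : Prop :=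
  ∃ ψ ∈ overChars θ, ∃ g : Γ, π g = x ∧ (ψ : Γ → ℂ) g ≠ 0

/-- With at most two characters over `θ` there is at most one nontrivial class of regular elements. -/
theorem isConj_of_regCoset (hπ : Function.Surjective π) (hker : π.ker = C)
    (hθ : IsIrrCharacter C θ) (hinv : ∀ g : Γ, conjG θ g = θ)
    (h2 : (overChars (Γ := Γ) θ).card ≤ 2) {x y : R} (hx : x ≠ 1) (hy : y ≠ 1)
    (hrx : RegCoset θ π x) (hry : RegCoset θ π y) : IsConj x y := by
  by_contra hxy
  obtain ⟨ψ₁, h₁, g₁, hg₁, hv₁⟩ := hrx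
  obtain ⟨ψ₂, h₂, g₂, hg₂, hv₂⟩ := hry
  obtain ⟨ψ₀, h₀⟩ := overChars_nonempty (Γ := Γ) hθ hinv
  let a : Fin 3 → R := ![1, x, y]
  let g : Fin 3 → Γ := ![1, g₁, g₂]
  let ψ : Fin 3 → IrrCharacter Γ := ![ψ₀, ψ₁, ψ₂]
  have hψ : ∀ i, ψ i ∈ overChars θ := fun i => by fin_cases i <;> simpa [ψ]
  have hg : ∀ i, π (g i) = a i := fun i => by fin_cases i <;> simp [g, a, hg₁, hg₂]
  have hv : ∀ i, (ψ i : Γ → ℂ) (g i) ≠ 0 := fun i => by
    fin_cases i
    · simpa [ψ, g] using IsIrrCharacter.apply_one_ne_zero ψ₀.2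
    · simpa [ψ, g] using hv₁
    · simpa [ψ, g] using hv₂
  have hdis : ∀ i j, IsConj (a i) (a j) → i = j := by
    intro i j hij
    fin_cases i <;> fin_cases j <;> first
      | rfl
      | exact absurd (isConj_one_right.1 hij) hx
      | exact absurd (isConj_one_left.1 hij) hx
      | exact absurd (isConj_one_right.1 hij) hy
      | exact absurd (isConj_one_left.1 hij) hy
      | exact absurd hij hxy
      | exact absurd (IsConj.symm hij) hxy
  let q : Fin 3 → R → ℂ := fun i r => if IsConj (a i) r then 1 else 0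
  have hq : ∀ i, IsClassFunction R (q i) := fun i r w => by
    have : IsConj (a i) (w * r * w⁻¹) ↔ IsConj (a i) r :=
      ⟨fun h => h.trans (isConj_iff.2 ⟨w⁻¹, by group⟩), fun h => h.trans (isConj_iff.2 ⟨w, rfl⟩)⟩
    simp only [q, this]
  let f : Fin 3 → overSpan (Γ := Γ) θ := fun i =>
    ⟨_, mul_mem_overSpan hker hθ hinv (hq i) (hψ i)⟩
  have hli : LinearIndependent ℂ f := by
    rw [Fintype.linearIndependent_iff]
    intro c hc j
    have h := congrFun (congrArg Subtype.val hc) (g j)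
    rw [AddSubmonoidClass.coe_finsetSum, Finset.sum_apply, Finset.sum_eq_single j] at h
    · simp only [f, q, SetLike.val_smul, Pi.smul_apply, smul_eq_mul, hg, if_pos (IsConj.refl (a j)),
        one_mul, ZeroMemClass.coe_zero, Pi.zero_apply, mul_eq_zero] at h
      exact h.resolve_right (hv j)
    · intro i _ hij
      simp only [f, q, SetLike.val_smul, Pi.smul_apply, smul_eq_mul, hg,
        if_neg (fun h' => hij (hdis i j h')), zero_mul, mul_zero]
    · simp
  have hc := hli.fintype_card_le_finrank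
  have hle : Module.finrank ℂ (overSpan (Γ := Γ) θ) ≤ 2 :=
    (finrank_span_finset_le_card _).trans (Finset.card_image_le.trans h2)
  simp at hc
  omega

/-- An element whose centralizer lies in a cyclic subgroup is regular. -/
theorem regCoset_of_cyclic (hπ : Function.Surjective π) (hker : π.ker = C)
    (hθ : IsIrrCharacter C θ) (hinv : ∀ g : Γ, conjG θ g = θ) {x : R} {Y : Subgroup R}
    (hY : IsCyclic Y) (hxY : Subgroup.centralizer ({x} : Set R) ≤ Y) : RegCoset θ π x := by
  set U := Y.comap π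
  have hCU : C ≤ U := fun c hc => by
    show π c ∈ Y
    rw [← hker] at hc
    rw [MonoidHom.mem_ker.1 hc]
    exact one_mem _
  have hxY' : x ∈ Y := hxY (Subgroup.mem_centralizer_singleton_iff.2 rfl)
  let πU : U →* Y := (π.comp U.subtype).codRestrict Y fun u => u.2
  have hπU : Function.Surjective πU := fun y => by
    obtain ⟨u, hu⟩ := hπ (y : R)
    exact ⟨⟨u, show π u ∈ Y by rw [hu]; exact y.2⟩, Subtype.ext hu⟩
  set C' := C.subgroupOf U
  let eC : C' ≃* C := Subgroup.subgroupOfEquivOfLe hCU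
  set θ' : C' → ℂ := θ ∘ eC
  have hθ' : IsIrrCharacter C' θ' := IsIrrCharacter.comp_equiv hθ eC
  haveI : C'.Normal := Subgroup.Normal.comap hCn _
  have hkerU : πU.ker = C' := by
    ext u
    rw [Subgroup.mem_subgroupOf, ← hker, MonoidHom.mem_ker, MonoidHom.mem_ker]
    exact ⟨fun h => congrArg Subtype.val h, fun h => Subtype.ext h⟩
  have hinv' : ∀ (u : U) (k : C'), θ' (MulAut.conjNormal u k) = θ' k := by
    intro u k
    have h := congrFun (hinv (u : Γ)) (eC k)
    rw [conjG_apply] at h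
    refine Eq.trans ?_ h
    exact congrArg θ (Subtype.ext (by
      show ((MulAut.conjNormal u k : C') : U).1 = _
      rw [MulAut.conjNormal_apply]; rfl))
  -- an extension
  obtain ⟨t, ht⟩ := IsCyclic.exists_zpow_surjective (G := Y)
  obtain ⟨t₀, ht₀⟩ := hπU t
  obtain ⟨E, hE, hres⟩ := RamifiedFrobenius.exists_extend (K := C') hθ' t₀ (fun u => by
    obtain ⟨i, hi⟩ := ht (πU u)
    refine ⟨⟨u * (t₀ ^ i)⁻¹, ?_⟩, i, by simp⟩
    rw [← hkerU, MonoidHom.mem_ker, map_mul, map_inv, map_zpow, ht₀]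
    exact mul_inv_eq_one.2 hi.symm) hinv'
  -- `E` is not identically zero on the coset
  obtain ⟨g₀, hg₀, hEg₀⟩ : ∃ u : U, πU u = ⟨x, hxY'⟩ ∧ E u ≠ 0 := by
    by_contra hno
    push Not at hno
    let q : Y → ℂ := fun y => if y = ⟨x, hxY'⟩ then 1 else 0
    have hq : IsClassFunction Y q := fun y w => by
      rw [show w * y * w⁻¹ = y by rw [IsCyclic.commGroup.mul_comm w y, mul_inv_cancel_right]]
    have hz : ∑ β : IrrCharacter Y, classInner q (β : Y → ℂ) • (E * ((β : Y → ℂ) ∘ πU)) = 0 := by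
      funext u
      have h := congrFun (IsClassFunction.eq_sum_irr hq) (πU u)
      simp only [Finset.sum_apply, Pi.smul_apply, smul_eq_mul] at h
      simp only [Finset.sum_apply, Pi.smul_apply, smul_eq_mul, Pi.mul_apply, Function.comp_apply,
        Pi.zero_apply]
      rw [show (∑ β : IrrCharacter Y, classInner q (β : Y → ℂ) * (E u * (β : Y → ℂ) (πU u)))
          = E u * q (πU u) by rw [h, Finset.mul_sum]; exact Finset.sum_congr rfl fun β _ => by ring]
      by_cases hu : πU u = ⟨x, hxY'⟩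
      · rw [hno u hu, zero_mul]
      · simp [q, hu]
    have hcoef : ∀ γ : IrrCharacter Y, classInner q (γ : Y → ℂ) = 0 := by
      intro γ
      have h := congrArg (fun F => classInner F (E * ((γ : Y → ℂ) ∘ πU))) hz
      simp only [classInner_sum_left, classInner_smul_left,
        CharDeep.Glauberman.classInner_ext_mul hπU hkerU hE hθ' hres, mul_ite, mul_one, mul_zero,
        Finset.sum_ite_eq', Finset.mem_univ, if_true] at h
      rw [h, classInner_zero_left]
    have h0 : q = 0 := by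
      rw [IsClassFunction.eq_sum_irr hq]
      exact Finset.sum_eq_zero fun γ _ => by rw [hcoef γ, zero_smul]
    simpa [q] using congrFun h0 ⟨x, hxY'⟩
  let η : U → ℂ := fun u => (if (πU u : R) = x then 1 else 0) * E u
  have hηspan : ∀ φ : IrrCharacter Γ, φ ∉ overChars θ →
      classInner η (fun u : U => (φ : Γ → ℂ) u) = 0 := by
    intro φ hφ
    have hqc : IsClassFunction Y (fun y : Y => if (y : R) = x then (1 : ℂ) else 0) := fun y w => by
      rw [show w * y * w⁻¹ = y by rw [IsCyclic.commGroup.mul_comm w y, mul_inv_cancel_right]]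
    have hEover : (⟨E, hE⟩ : IrrCharacter U) ∈ overChars θ' := by
      rw [mem_overChars, show (fun c : C' => E c) = θ' from funext hres, classInner_irr_self hθ']
      exact one_ne_zero
    have hmem := mul_mem_overSpan hkerU hθ'
      (fun u => funext fun k => by rw [conjG_apply]; exact hinv' u k) hqc hEover
    refine Submodule.span_induction (p := fun F _ => classInner F (fun u : U => (φ : Γ → ℂ) u) = 0)
      ?_ (classInner_zero_left _) ?_ ?_ hmem
    · intro F hF
      obtain ⟨ν, hν, rfl⟩ := Finset.mem_image.1 hF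
      by_contra hne
      rw [IsCharacter.classInner_comm (isCharacter_irr ν)
        (IsCharacter.restrict (isCharacter_irr φ) U)] at hne
      have h := classInner_ne_zero_of_constituent (Γ := U)
        (IsCharacter.restrict (isCharacter_irr φ) U) ν.2 hne hθ' (mem_overChars.1 hν)
      refine hφ (mem_overChars.2 fun h0 => h ?_)
      rw [show (fun c : C' => (φ : Γ → ℂ) ((c : U) : Γ)) = (fun c : C => (φ : Γ → ℂ) c) ∘ eC from rfl,
        classInner_reindex, h0]
    · intro a b _ _ ha hb; rw [classInner_add_left, ha, hb, add_zero]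
    · intro c a _ ha; rw [classInner_smul_left, ha, mul_zero]
  have hI : indFun U η ∈ overSpan θ := mem_overSpan (indFun_isClassFunction U η) fun φ hφ => by
    rw [classInner_indFun U η (IsIrrCharacter.isClassFunction φ.2)]
    exact hηspan φ hφ
  have hgx : π (g₀ : Γ) = x := congrArg Subtype.val hg₀
  have hval : indFun U η (g₀ : Γ) = η g₀ := by
    have hterm : ∀ y : Γ, extendByZero U η (y⁻¹ * (g₀ : Γ) * y) = if y ∈ U then η g₀ else 0 := by
      intro y
      by_cases hy : y ∈ U
      · rw [if_pos hy, extendByZero_apply_mem U η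
          (U.mul_mem (U.mul_mem (inv_mem hy) g₀.2) hy)]
        have e1 : (⟨y⁻¹ * (g₀ : Γ) * y, U.mul_mem (U.mul_mem (inv_mem hy) g₀.2) hy⟩ : U)
            = (⟨y, hy⟩ : U)⁻¹ * g₀ * ⟨y, hy⟩ := rfl
        rw [e1]
        have h1 : πU ((⟨y, hy⟩ : U)⁻¹ * g₀ * ⟨y, hy⟩) = πU g₀ := by
          rw [map_mul, map_mul, map_inv, IsCyclic.commGroup.mul_comm (πU ⟨y, hy⟩)⁻¹ (πU g₀),
            inv_mul_cancel_right]
        have h2 : E ((⟨y, hy⟩ : U)⁻¹ * g₀ * ⟨y, hy⟩) = E g₀ := by
          have := IsIrrCharacter.isClassFunction hE g₀ (⟨y, hy⟩ : U)⁻¹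
          rwa [inv_inv] at this
        simp only [η, h1, h2]
      · rw [if_neg hy]
        by_cases hm : y⁻¹ * (g₀ : Γ) * y ∈ U
        · rw [extendByZero_apply_mem U η hm]
          have hne : ¬ (πU ⟨_, hm⟩ : R) = x := by
            intro h0
            have h1 : (π y)⁻¹ * x * π y = x := by
              rw [← hgx, ← map_inv, ← map_mul, ← map_mul, hgx]
              exact h0
            refine hy (hxY (Subgroup.mem_centralizer_singleton_iff.2 ?_))
            rw [mul_assoc, inv_mul_eq_iff_eq_mul] at h1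
            exact h1.symm
          simp only [η, if_neg hne, zero_mul]
        · exact extendByZero_apply_notMem U η hm
    rw [indFun_def, Finset.sum_congr rfl fun y _ => hterm y, ← Finset.sum_filter, Finset.sum_const,
      nsmul_eq_mul, show ((Finset.univ.filter fun y : Γ => y ∈ U).card : ℂ) = (Nat.card U : ℂ) by
        rw [Nat.card_eq_fintype_card, Fintype.card_subtype],
      inv_mul_cancel_left₀ (Nat.cast_ne_zero.2 Nat.card_pos.ne')]
  have hne : indFun U η (g₀ : Γ) ≠ 0 := by
    rw [hval]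
    simp only [η, hg₀, if_pos, one_mul]
    exact hEg₀
  by_contra hreg
  refine hne (Submodule.span_induction (p := fun F _ => F (g₀ : Γ) = 0) ?_ rfl ?_ ?_ hI)
  · intro F hF
    obtain ⟨ψ, hψ, rfl⟩ := Finset.mem_image.1 hF
    by_contra h0
    exact hreg ⟨ψ, hψ, g₀, hgx, h0⟩
  · intro a b _ _ ha hb; rw [Pi.add_apply, ha, hb, add_zero]
  · intro c a _ ha; rw [Pi.smul_apply, ha, smul_zero]

/-- Without regular elements of `s`-power order the `s`-part of the index is a square. -/
theorem even_factorization_or_exists (hπ : Function.Surjective π) (hker : π.ker = C)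
    (hθ : IsIrrCharacter C θ) (hinv : ∀ g : Γ, conjG θ g = θ) {s : ℕ} (hs : s.Prime) :
    (∃ x : R, x ≠ 1 ∧ RegCoset θ π x ∧ ∃ k : ℕ, orderOf x = s ^ k) ∨
      Even ((Nat.card R).factorization s) := by
  haveI := Fact.mk hs
  refine or_iff_not_imp_left.2 fun hno => ?_
  push Not at hno
  obtain ⟨S⟩ : Nonempty (Sylow s R) := inferInstance
  set U := (S : Subgroup R).comap π
  have hCU : C ≤ U := fun c hc => by
    show π c ∈ (S : Subgroup R)
    rw [← hker] at hc
    rw [MonoidHom.mem_ker.1 hc]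
    exact one_mem _
  set C' := C.subgroupOf U
  let eC : C' ≃* C := Subgroup.subgroupOfEquivOfLe hCU
  set θ' : C' → ℂ := θ ∘ eC
  have hθ' : IsIrrCharacter C' θ' := IsIrrCharacter.comp_equiv hθ eC
  haveI : C'.Normal := Subgroup.Normal.comap hCn _
  have hinv' : ∀ u : U, conjG θ' u = θ' := fun u => funext fun k => by
    have h := congrFun (hinv (u : Γ)) (eC k)
    rw [conjG_apply] at h ⊢
    exact h
  set a := (Nat.card R).factorization s
  have hSc : Nat.card (S : Subgroup R) = s ^ a := S.card_eq_multiplicity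
  have hidx : C'.index = s ^ a := by
    rw [← hSc, show C' = C.subgroupOf U from rfl, ← Subgroup.relIndex, ← hker]
    rw [Subgroup.relIndex, ← MonoidHom.ker_domRestrict, Subgroup.index_ker]
    refine Nat.card_congr (Equiv.setCongr ?_)
    ext r
    constructor
    · rintro ⟨u, rfl⟩; exact u.2
    · intro hr
      obtain ⟨g, rfl⟩ := hπ r
      exact ⟨⟨g, hr⟩, rfl⟩
  obtain ⟨e', he', hsum'⟩ := exists_sum_sq (Γ := U) hθ' hinv'
  obtain ⟨ν, hν⟩ := overChars_nonempty (Γ := U) hθ' hinv'
  obtain ⟨hν0, hνres⟩ := he' ν hν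
  have hle : e' ν ^ 2 ≤ s ^ a := by
    rw [← hidx, ← hsum']
    exact Finset.single_le_sum (f := fun ψ => e' ψ ^ 2) (fun _ _ => Nat.zero_le _) hν
  rcases hle.eq_or_lt with heq | hlt
  · refine ⟨(e' ν).factorization s, ?_⟩
    have := congrArg (fun m : ℕ => m.factorization s) heq
    simp only [Nat.factorization_pow, Finsupp.smul_apply, smul_eq_mul,
      hs.factorization_self, mul_one] at this
    omega
  exfalso
  obtain ⟨e, he, hsum⟩ := exists_sum_sq (Γ := Γ) hθ hinv
  have hRcard : C.index = Nat.card R := by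
    rw [← hker, Subgroup.index_ker]
    exact Nat.card_congr (Equiv.subtypeUnivEquiv hπ)
  -- every degree is divisible by a large power of `s`
  have hdiv : ∀ ψ ∈ overChars θ, s ^ a ∣ e ψ * e' ν := by
    intro ψ hψ
    obtain ⟨m, hm⟩ := IsCharacter.classInner_nat (IsCharacter.restrict (isCharacter_irr ψ) U)
      (isCharacter_irr ν)
    have hvan : ∀ u : U, u ∉ C' → (ψ : Γ → ℂ) u = 0 := by
      intro u hu
      by_contra hne
      have hx1 : π u ≠ 1 := fun h1 => hu (Subgroup.mem_subgroupOf.2 (by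
        rw [← hker]; exact MonoidHom.mem_ker.2 h1))
      obtain ⟨k, hk⟩ := IsPGroup.iff_orderOf.1 S.isPGroup' ⟨π u, u.2⟩
      rw [← Subgroup.orderOf_coe] at hk
      exact hno (π u) hx1 ⟨ψ, hψ, u, rfl, hne⟩ k hk
    have hC'card : Nat.card C' = Nat.card C := Nat.card_congr eC.toEquiv
    have key : classInner (fun u : U => (ψ : Γ → ℂ) u) (ν : U → ℂ) * (Nat.card U : ℂ)
        = (e ψ : ℂ) * (e' ν : ℂ) * (Nat.card C' : ℂ) := by
      rw [Cfsg.classInner, inv_mul_eq_div, div_mul_cancel₀ _ (Nat.cast_ne_zero.2 Nat.card_pos.ne'),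
        ← Finset.sum_filter_add_sum_filter_not Finset.univ (fun u : U => u ∈ C'),
        Finset.sum_eq_zero (s := Finset.univ.filter fun u : U => ¬ u ∈ C') (fun u hu => by
          rw [hvan u (Finset.mem_filter.1 hu).2, zero_mul]), add_zero,
        Finset.sum_subtype (p := fun u : U => u ∈ C') (Finset.univ.filter fun u : U => u ∈ C')
          (fun u => by simp)]
      have hterm : ∀ k : C', (ψ : Γ → ℂ) ((k : U) : Γ) * conj ((ν : U → ℂ) k)
          = (e ψ : ℂ) * (e' ν : ℂ) * (θ' k * conj (θ' k)) := fun k => by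
        rw [hνres k, map_mul, Complex.conj_natCast,
          show (ψ : Γ → ℂ) ((k : U) : Γ) = (e ψ : ℂ) * θ' k from (he ψ hψ).2 (eC k)]
        ring
      rw [Finset.sum_congr rfl fun k _ => hterm k, ← Finset.mul_sum,
        show ∑ k : C', θ' k * conj (θ' k) = (Nat.card C' : ℂ) from RamifiedFrobenius.sum_sq_norm hθ']
    rw [hm, ← Subgroup.card_mul_index C', hidx] at key
    push_cast at key
    have h' : ((m * s ^ a : ℕ) : ℂ) = ((e ψ * e' ν : ℕ) : ℂ) := by
      push_cast
      exact mul_right_cancel₀ (Nat.cast_ne_zero.2 (Nat.card_pos (α := C')).ne')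
        (by linear_combination key)
    exact ⟨m, by rw [← Nat.cast_injective h', mul_comm]⟩
  have hv : 2 * (e' ν).factorization s < a := by
    by_contra hc
    have h1 : s ^ a ∣ e' ν ^ 2 := (hs.pow_dvd_iff_le_factorization (pow_ne_zero _ hν0)).2 (by
      rw [Nat.factorization_pow, Finsupp.smul_apply, smul_eq_mul]; omega)
    exact absurd (Nat.le_of_dvd (Nat.pos_of_ne_zero (pow_ne_zero _ hν0)) h1) (not_le.2 hlt)
  have hdvd : s ^ (a + 1) ∣ Nat.card R := by
    rw [← hRcard, ← hsum]
    refine Finset.dvd_sum fun ψ hψ => ?_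
    have he0 := (he ψ hψ).1
    have h1 := (hs.pow_dvd_iff_le_factorization (mul_ne_zero he0 hν0)).1 (hdiv ψ hψ)
    rw [Nat.factorization_mul he0 hν0, Finsupp.add_apply] at h1
    refine (hs.pow_dvd_iff_le_factorization (pow_ne_zero _ he0)).2 ?_
    rw [Nat.factorization_pow, Finsupp.smul_apply, smul_eq_mul]
    omega
  have := (hs.pow_dvd_iff_le_factorization Nat.card_pos.ne').1 hdvd
  omega

/-- At most two characters over `θ` make the index a sum of two squares. -/
theorem exists_sq_add_sq (hπ : Function.Surjective π) (hker : π.ker = C)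
    (hθ : IsIrrCharacter C θ) (hinv : ∀ g : Γ, conjG θ g = θ)
    (h2 : (overChars (Γ := Γ) θ).card ≤ 2) : ∃ a b : ℕ, Nat.card R = a ^ 2 + b ^ 2 := by
  obtain ⟨e, -, hsum⟩ := exists_sum_sq (Γ := Γ) hθ hinv
  have hRcard : C.index = Nat.card R := by
    rw [← hker, Subgroup.index_ker]
    exact Nat.card_congr (Equiv.subtypeUnivEquiv hπ)
  rw [← hRcard, ← hsum]
  rcases Nat.lt_or_ge (overChars (Γ := Γ) θ).card 2 with h1 | h1
  · obtain ⟨ψ, hψ⟩ := overChars_nonempty (Γ := Γ) hθ hinv
    have h : overChars θ = {ψ} := Finset.eq_singleton_iff_unique_mem.2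
      ⟨hψ, fun φ hφ => Finset.card_le_one.1 (Nat.lt_succ_iff.1 h1) φ hφ ψ hψ⟩
    exact ⟨e ψ, 0, by rw [h, Finset.sum_singleton]; norm_num⟩
  · obtain ⟨ψ, φ, hne, h⟩ := Finset.card_eq_two.1 (le_antisymm h2 h1)
    exact ⟨e ψ, e φ, by rw [h, Finset.sum_pair hne]⟩

end Quotient

end CfsgLib.Blocks.HeightZeroThree
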