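import Cfsg.Agent.Lib.Blocks.HeightZeroThree.LinearBound
import Cfsg.Agent.Lib.Blocks.HeightZeroThree.Projective
import Cfsg.Agent.Lib.Blocks.RankOneFewChars
import Cfsg.Agent.Lib.Blocks.NormalDefect
import Cfsg.Agent.Lib.Blocks.FongReynolds
import Cfsg.Agent.Lib.DegreeTools.DeficiencyOne
import Cfsg.Agent.Lib.BrouePuig.FreeAbelian

/-!
# Blocks with normal abelian defect group and at most three characters

The counting formula makes the stabilizer of a maximal pair transitive on the nontrivial elements of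
the defect group, and the characters over the canonical character are at most as many as the Brauer
characters, at most two for the block and one below a nontrivial element.
-/

set_option autoImplicit false
set_option linter.style.haveILetI false
set_option linter.unusedSectionVars false
set_option maxHeartbeats 2000000
set_option synthInstance.maxHeartbeats 200000

namespace CfsgLib.Blocks.HeightZeroThree

open Cfsg CfsgLib.Blocks CfsgLib.BrauerPairs CfsgLib.BrouePuig CfsgLib.Char
open scoped Classical ComplexConjugate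

variable {p : ℕ} {M : Ideal AlgInt}

section Count

variable {G : Type*} [Group G] [Fintype G] {B : Set (IrrCharacter G)} {P L : Subgroup G}
  [P.Normal] [L.Normal]

/-- The characters over a character of `L` trivial on the defect group are at most as many as the
Brauer characters of the block. -/
theorem card_overChars_le_rank (hM : IsPModular p M) (hB : IsPBlock M B)
    (hD : IsDefectGroup p M B P) (hab : ∀ x ∈ P, ∀ y ∈ P, x * y = y * x) (hPL : P ≤ L)
    (hCL : Subgroup.centralizer (P : Set G) ≤ L) {θ : IrrCharacter L}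
    (hker : ∀ x ∈ P.subgroupOf L, (θ : L → ℂ) x = (θ : L → ℂ) 1)
    (hind : IsInducedBlock M L (blockOf M (θ : L → ℂ)) B) :
    (overChars (Γ := G) (θ : L → ℂ)).card ≤ blockRank p B := by
  haveI := Fact.mk hM.1
  have hPp := isPGroup_defectGroup hD
  set Ω := overChars (Γ := G) (θ : L → ℂ)
  have hmem : ∀ χ ∈ Ω, χ ∈ B := fun χ hχ => by
    rw [IsInducedBlock.unique hM hind (isInducedBlock_of_over hM hPp hCL (isPBlock_blockOf χ)
      (SameBlock_refl hM _) (mem_overChars.1 hχ))]
    exact SameBlock_refl hM _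
  have hkerχ : ∀ χ ∈ Ω, ∀ u ∈ P, (χ : G → ℂ) u = (χ : G → ℂ) 1 := by
    intro χ hχ u hu
    have h := restrict_eq_smul_orbit χ.2 θ.2 (mem_overChars.1 hχ)
    have hset : {ψ : L → ℂ | ∃ g : G, ψ = conjG (θ : L → ℂ) g}
        = ((Finset.univ.image fun g : G => conjG (θ : L → ℂ) g : Finset (L → ℂ)) : Set (L → ℂ)) := by
      ext ψ; simp [eq_comm]
    rw [hset, finsum_mem_coe_finset] at h
    have h1 := congrFun h ⟨u, hPL hu⟩
    have h2 := congrFun h 1
    simp only [Pi.smul_apply, smul_eq_mul, Finset.sum_apply] at h1 h2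
    rw [h1, ← Subgroup.coe_one L, h2]
    congr 1
    refine Finset.sum_congr rfl fun ψ hψ => ?_
    obtain ⟨g, -, rfl⟩ := Finset.mem_image.1 hψ
    rw [conjG_apply, conjG_apply]
    refine (hker _ (Subgroup.mem_subgroupOf.2 ?_)).trans
      (congrArg (θ : L → ℂ) (Subtype.ext (by simp)))
    exact Subgroup.Normal.conj_mem inferInstance u hu g
  -- every value is a value at a regular element
  have hval : ∀ g : G, (∃ s : G, IsPRegular p s ∧ ∀ χ ∈ Ω, (χ : G → ℂ) g = (χ : G → ℂ) s) ∨
      ∀ χ ∈ Ω, (χ : G → ℂ) g = 0 := by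
    intro g
    obtain ⟨s, hgs, -, -, hs⟩ := pPart_spec hM.1 g
    by_cases hg : pPart p g ∈ P
    · refine Or.inl ⟨s, hs, fun χ hχ => ?_⟩
      obtain ⟨ψ, hψ, he⟩ := IsIrrCharacter.exists_deflate χ.2 P (hkerχ χ hχ)
      have hχe : (χ : G → ℂ) = (inflate P ⟨ψ, hψ⟩ : G → ℂ) := he
      rw [hχe]
      conv_lhs => rw [← hgs]
      exact inflate_mul_left _ hg s
    · refine Or.inr fun χ hχ => ?_
      obtain ⟨ψ, hψ, he⟩ := IsIrrCharacter.exists_deflate χ.2 P (hkerχ χ hχ)
      have hχe : χ = inflate P ⟨ψ, hψ⟩ := Subtype.ext he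
      rw [hχe]
      refine inflate_eq_zero hM ?_ hg
      have h1 := (comm_iff_heights hM hB hD).1 (fun a b => Subtype.ext (hab a a.2 b b.2)) χ
        (hmem χ hχ)
      rw [hχe, degVal_inflate, minDegVal_eq_of_defectGroup hM hB hD] at h1
      exact h1
  let f : Ω → Submodule.span ℂ ((fun χ : IrrCharacter G => pRegularPart p (χ : G → ℂ)) '' B) :=
    fun χ => ⟨pRegularPart p ((χ : IrrCharacter G) : G → ℂ),
      Submodule.subset_span ⟨χ, hmem χ χ.2, rfl⟩⟩
  have hli : LinearIndependent ℂ f := by
    rw [Fintype.linearIndependent_iff]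
    intro c hc χ₀
    have h0 : (∑ χ : Ω, c χ • ((χ : IrrCharacter G) : G → ℂ)) = 0 := by
      funext g
      simp only [Finset.sum_apply, Pi.smul_apply, smul_eq_mul, Pi.zero_apply]
      rcases hval g with ⟨s, hs, he⟩ | he
      · have h1 := congrFun (congrArg Subtype.val hc) s
        simp only [f, AddSubmonoidClass.coe_finsetSum, SetLike.val_smul, Finset.sum_apply,
          Pi.smul_apply, smul_eq_mul, pRegularPart_apply, if_pos hs, ZeroMemClass.coe_zero,
          Pi.zero_apply] at h1
        rw [← h1]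
        exact Finset.sum_congr rfl fun χ _ => by rw [he χ χ.2]
      · exact Finset.sum_eq_zero fun χ _ => by rw [he χ χ.2, mul_zero]
    have h1 := congrArg (fun F => classInner F (((χ₀ : IrrCharacter G)) : G → ℂ)) h0
    simp only [classInner_sum_left, classInner_smul_left, classInner_zero_left] at h1
    rw [Finset.sum_eq_single χ₀ (fun χ _ hne => by
        rw [classInner_irr_ne χ.1.2 χ₀.1.2 fun he => hne (Subtype.ext (Subtype.ext he)), mul_zero])
      (by simp), classInner_irr_self χ₀.1.2, mul_one] at h1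
    exact h1
  have h := hli.fintype_card_le_finrank
  rwa [Fintype.card_coe] at h

/-- Induction from the stabilizer embeds the characters over `θ`. -/
theorem card_overChars_stab_le (θ : IrrCharacter L) (hLT : L ≤ stab (θ : L → ℂ)) :
    (overChars (Γ := stab (θ : L → ℂ))
      ((θ : L → ℂ) ∘ Subgroup.subgroupOfEquivOfLe hLT)).card
      ≤ (overChars (Γ := G) (θ : L → ℂ)).card := by
  have hT := isInertia_stab (θ : L → ℂ)
  have hover : ∀ ψ : IrrCharacter (stab (θ : L → ℂ)),
      ψ ∈ overChars ((θ : L → ℂ) ∘ Subgroup.subgroupOfEquivOfLe hLT) →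
      classInner (resLe hLT (ψ : stab (θ : L → ℂ) → ℂ)) (θ : L → ℂ) ≠ 0 := fun ψ hψ => by
    rw [← classInner_resLe hLT]
    exact mem_overChars.1 hψ
  refine Finset.card_le_card_of_injOn
    (fun ψ => if h : classInner (resLe hLT (ψ : stab (θ : L → ℂ) → ℂ)) (θ : L → ℂ) ≠ 0 then
      ⟨_, (indFun_inertia hLT θ.2 hT ψ.2 h).1⟩ else trivChar G) (fun ψ hψ => ?_) fun ψ hψ φ hφ he => ?_
  · have h := hover ψ hψ
    beta_reduce
    rw [dif_pos h, Finset.mem_coe, mem_overChars, (indFun_inertia hLT θ.2 hT ψ.2 h).2]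
    exact h
  · have h := hover ψ hψ
    have h' := hover φ hφ
    simp only [dif_pos h, dif_pos h'] at he
    exact Subtype.ext (indFun_inertia_inj hLT θ.2 hT ψ.2 h φ.2 h' (congrArg Subtype.val he))

/-- If one character lies over `θ`, the index of `L` in the stabilizer is a square. -/
theorem isSquare_relIndex_stab (θ : IrrCharacter L) (hLT : L ≤ stab (θ : L → ℂ))
    (h1 : (overChars (Γ := G) (θ : L → ℂ)).card ≤ 1) :
    ∃ e : ℕ, e ≠ 0 ∧ L.relIndex (stab (θ : L → ℂ)) = e ^ 2 := by
  haveI : (L.subgroupOf (stab (θ : L → ℂ))).Normal := Subgroup.Normal.comap inferInstance _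
  refine isSquare_index (C := L.subgroupOf (stab (θ : L → ℂ)))
    (θ := (θ : L → ℂ) ∘ Subgroup.subgroupOfEquivOfLe hLT) (IsIrrCharacter.comp_equiv θ.2 _)
    (fun t => funext fun k => ?_) ((card_overChars_stab_le θ hLT).trans h1)
  have h := congrFun (mem_stab.1 t.2) (Subgroup.subgroupOfEquivOfLe hLT k)
  rw [conjG_apply] at h ⊢
  exact h

end Count

variable {G : Type*} [Group G] [Fintype G] {B : Set (IrrCharacter G)} {P : Subgroup G} [P.Normal]

/-- A block with normal abelian defect group and at most three characters has defect group of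
order at most three. -/
theorem card_defect_le_three (hM : IsPModular p M) (hB : IsPBlock M B)
    (hD : IsDefectGroup p M B P) (hab : ∀ x ∈ P, ∀ y ∈ P, x * y = y * x)
    (hk : Nat.card B ≤ 3) : Nat.card P ≤ 3 := by
  haveI := Fact.mk hM.1
  rcases eq_or_ne P ⊥ with hP1 | hP1
  · rw [hP1, Subgroup.card_bot]; norm_num
  have hPp := isPGroup_defectGroup hD
  set C := Subgroup.centralizer (P : Set G)
  haveI hCn : C.Normal := ⟨fun x hx g =>
    mem_centralizer_conj (by rw [Subgroup.normalizer_eq_top]; exact Subgroup.mem_top g) hx⟩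
  have hPC : P ≤ C := fun x hx => Subgroup.mem_centralizer_iff.2 fun y hy => hab y hy x hx
  obtain ⟨c, hcD, hc⟩ := exists_defectGroup_inducing_local (L := C) hM hB hD hPC le_rfl
    (Subgroup.centralizer_le_normalizer _)
  have hmax := maximal_of_induced hM hD hPp hc
  have hP'p : IsPGroup p (P.subgroupOf C) := hPp.comap_subtype
  obtain ⟨ψ, hψc, hψ, -, hall⟩ := exists_canonical hM hP'p
    (sup_centralizer_subgroupOf hPC le_rfl le_sup_right) hc.1 hcD
  set θ := inflate (P.subgroupOf C) ψ
  have hθker : ∀ x ∈ P.subgroupOf C, (θ : C → ℂ) x = (θ : C → ℂ) 1 := fun x hx => inflate_ker ψ hx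
  have hcθ : c = blockOf M (θ : C → ℂ) := IsPBlock.eq_blockOf hM hc.1 hψc
  -- the only member of `c` trivial on `P`
  have huniq : ∀ φ ∈ c, (∀ x ∈ P.subgroupOf C, (φ : C → ℂ) x = (φ : C → ℂ) 1) → φ = θ := by
    intro φ hφ hker
    obtain ⟨η, hη⟩ := hall φ hφ
    have h2 : ∀ w : P.subgroupOf C, prodChar p (P.subgroupOf C) (η : P.subgroupOf C → ℂ) (θ : C → ℂ) w
        = (η : P.subgroupOf C → ℂ) w * (θ : C → ℂ) 1 := fun w => by
      have := prodChar_mul (ψ := ψ) (ζ := (η : P.subgroupOf C → ℂ)) hM.1 hP'p w (s := 1)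
        (by simp [hM.1.ne_one]) (Commute.one_right _)
      rwa [mul_one] at this
    have hv : ∀ u : P.subgroupOf C, (η : P.subgroupOf C → ℂ) u = (η : P.subgroupOf C → ℂ) 1 := fun u => by
      have h1 := hker u u.2
      rw [hη, show (1 : C) = ((1 : P.subgroupOf C) : C) from rfl, h2, h2] at h1
      exact mul_right_cancel₀ (irr_one_ne_zero θ) h1
    have hη1 : (η : P.subgroupOf C → ℂ) 1 = 1 := by
      have h := CfsgLib.Char.apply_one_eq_one_of_comm (χ := (η : P.subgroupOf C → ℂ))
        (fun a b => Subtype.ext (Subtype.ext (hab _ a.2 _ b.2))) η.2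
      exact h
    refine Subtype.ext ?_
    rw [hη]
    funext x
    by_cases hx : pPart p x ∈ P.subgroupOf C
    · rw [prodChar, dif_pos hx, hv, hη1, one_mul]
    · rw [prodChar, dif_neg hx]
      exact (inflate_eq_zero hM hψ hx).symm
  set T := pairStab P c
  have hTmem : ∀ t : G, t ∈ T ↔ conjG (θ : C → ℂ) t = (θ : C → ℂ) := by
    intro t
    constructor
    · intro ht
      obtain ⟨χ', hχ', hcc⟩ := ((mem_pairStab t).1 ht).2.2 θ hψc
      have hker' : ∀ x ∈ P.subgroupOf C, (χ' : C → ℂ) x = (χ' : C → ℂ) 1 := by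
        intro x hx
        have hy : t⁻¹ * (x : G) * t ∈ P := by
          simpa using Subgroup.Normal.conj_mem (inferInstance : P.Normal) _
            (Subgroup.mem_subgroupOf.1 hx) t⁻¹
        rw [hcc ⟨_, hPC hy⟩ x (by simp [mul_assoc]), hθker _ (Subgroup.mem_subgroupOf.2 hy),
          hcc 1 1 (by simp)]
      rw [huniq χ' hχ' hker'] at hcc
      funext k
      rw [conjG_apply]
      exact hcc k _ rfl
    · intro ht
      refine (mem_pairStab t).2 ⟨by rw [Subgroup.normalizer_eq_top]; exact Subgroup.mem_top _,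
        by rw [Subgroup.normalizer_eq_top]; exact Subgroup.mem_top _, fun χ hχ => ?_⟩
      let e : C ≃* C := (MulAut.conjNormal t).symm
      refine ⟨irrRelabel e χ, ?_, fun k k' hk' => ?_⟩
      · have he : irrRelabel e θ = θ := Subtype.ext (funext fun k => by
          rw [irrRelabel_apply]
          conv_rhs => rw [← (MulAut.conjNormal t : MulAut C).apply_symm_apply k]
          conv_lhs => rw [← ht]
          rw [conjG_apply]
          exact congrArg (θ : C → ℂ) (Subtype.ext (MulAut.conjNormal_apply t (e k)).symm))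
        have h1 := sameBlock_irrRelabel e (mem_blockOf.1 (hcθ ▸ hχ))
        rw [he] at h1
        rw [hcθ]
        exact mem_blockOf.2 h1
      · rw [irrRelabel_apply]
        refine congrArg (χ : C → ℂ) ((MulEquiv.symm_apply_eq _).2 (Subtype.ext ?_))
        rw [MulAut.conjNormal_apply, hk']
  have hstab : stab (θ : C → ℂ) = T := by
    ext t; rw [mem_stab, hTmem]
  have hCT : C ≤ T := centralizer_le_pairStab c
  -- the action on `P`
  letI : CommGroup P := { (inferInstance : Group P) with
    mul_comm := fun a b => Subtype.ext (hab a a.2 b b.2) }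
  let φ : T →* MulAut P := (MulAut.conjNormal (H := P)).comp T.subtype
  have hφ : ∀ (t : T) (w : P), ((φ t w : P) : G) = (t : G) * (w : G) * (t : G)⁻¹ := fun t w =>
    MulAut.conjNormal_apply (t : G) w
  have hker : φ.ker = C.subgroupOf T := by
    ext t
    rw [MonoidHom.mem_ker, Subgroup.mem_subgroupOf, mem_centralizer_iff_conj]
    exact ⟨fun h x hx => by rw [← hφ t ⟨x, hx⟩, h]; rfl,
      fun h => MulEquiv.ext fun w => Subtype.ext ((hφ t w).trans (h w w.2))⟩
  -- the counting formula
  set l := blockRank p B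
  set lw : P → ℕ := fun w => blockRank p (bel hM hmax.1.1 w).2
  set n : P → ℕ := fun w =>
    Nat.card (T ⊓ Subgroup.centralizer ({(w : G)} : Set G) : Subgroup G)
  have hcount : Nat.card B * Nat.card T = ∑ w : P, n w * lw w := by
    have h := card_block_eq hM hmax hab
    exact_mod_cast h
  have hlw : ∀ w, 1 ≤ lw w := fun w =>
    DegreeTools.DeficiencyOne.one_le_blockRank hM (bel_inducedIn hM hmax.1.1 hab w).2.1
  have h1 : n 1 = Nat.card T ∧ lw 1 = l := by
    have h1 : Subgroup.centralizer ({((1 : P) : G)} : Set G) = ⊤ := eq_top_iff.2 fun x _ => by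
      rw [Subgroup.mem_centralizer_singleton_iff, OneMemClass.coe_one, mul_one, one_mul]
    refine ⟨by simp only [n]; rw [h1, inf_top_eq], ?_⟩
    simp only [lw]
    rw [blockRank_bel hM hmax.1.1 hab, show cenZ ((1 : P) : G) = ⊤ by rw [cenZ_eq, h1],
      lrank_top hM ((isBrauerPairOf_iff_induced hM hmax.1.1.1 hmax.1.1.2).1 hmax.1)]
  have hl1 : 1 ≤ l := h1.2 ▸ hlw 1
  by_cases hl : l = 1
  · rw [(RankOneFew.main hM hB hD hP1 hl (by omega)).2.1]; exact hk
  letI : MulAction T P := MulAction.compHom P φ
  let O : P → Finset P := fun w => Finset.univ.filter fun w' => ∃ t : T, φ t w = w'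
  have hOsum : ∀ w, (O w).card * n w = Nat.card T ∧ ∀ w' ∈ O w, n w' = n w := by
    intro w
    refine ⟨?_, fun w' hw' => ?_⟩
    · have e1 : (O w).card = Fintype.card (MulAction.orbit T w) := by
        rw [← Set.toFinset_card]
        congr 1
        ext w'
        simp only [O, Finset.mem_filter, Finset.mem_univ, true_and, Set.mem_toFinset,
          MulAction.mem_orbit_iff]
        rfl
      have e2 : n w = Fintype.card (MulAction.stabilizer T w) := by
        rw [← Nat.card_eq_fintype_card]
        refine Nat.card_congr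
          { toFun := fun x => ⟨⟨x.1, x.2.1⟩, Subtype.ext ((hφ _ w).trans
              (mul_inv_eq_iff_eq_mul.2 (Subgroup.mem_centralizer_singleton_iff.1 x.2.2)))⟩
            invFun := fun x => ⟨x.1.1, x.1.2, Subgroup.mem_centralizer_singleton_iff.2
              (mul_inv_eq_iff_eq_mul.1 ((hφ _ w).symm.trans (congrArg Subtype.val x.2)))⟩
            left_inv := fun _ => rfl
            right_inv := fun _ => rfl }
      rw [e1, e2, MulAction.card_orbit_mul_card_stabilizer_eq_card_group, Nat.card_eq_fintype_card]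
    · obtain ⟨t, rfl⟩ := (Finset.mem_filter.1 hw').2
      simp only [n]
      rw [hφ]
      exact card_inf_centralizer_conj t.2 _
  -- one orbit, one Brauer character below
  have key : ∀ w : P, w ≠ 1 → l = 2 ∧ lw w = 1 ∧ ∀ w' : P, w' ≠ 1 → w' ∈ O w := by
    intro w hw
    have hO1 : (1 : P) ∉ O w := fun h => by
      obtain ⟨t, ht⟩ := (Finset.mem_filter.1 h).2
      exact hw ((φ t).injective (ht.trans (map_one _).symm))
    have hself : w ∈ O w := Finset.mem_filter.2 ⟨Finset.mem_univ _, 1, by rw [map_one]; rfl⟩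
    have hconst : ∑ x ∈ O w, n x = Nat.card T := by
      rw [Finset.sum_congr rfl (hOsum w).2, Finset.sum_const, smul_eq_mul, (hOsum w).1]
    have hnw : 0 < n w := Nat.card_pos
    have hlo : ∑ x ∈ O w, n x * lw x ≥ Nat.card T + n w * (lw w - 1) := by
      have hw' := Finset.sum_erase_add (O w) (fun x => n x * lw x) hself
      have hw'' := Finset.sum_erase_add (O w) n hself
      have : ∑ x ∈ (O w).erase w, n x ≤ ∑ x ∈ (O w).erase w, n x * lw x :=
        Finset.sum_le_sum fun x _ => Nat.le_mul_of_pos_right _ (hlw x)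
      have hmul : n w * lw w = n w + n w * (lw w - 1) := by
        obtain ⟨j, hj⟩ := Nat.exists_eq_add_of_le (hlw w)
        rw [hj, Nat.add_sub_cancel_left]; ring
      rw [hconst] at hw''
      omega
    have hT0 : 0 < Nat.card T := Nat.card_pos
    have hsplit : ∑ x : P, n x * lw x
        = Nat.card T * l + ∑ x ∈ O w, n x * lw x
          + ∑ x ∈ Finset.univ.filter (fun x => x ≠ 1 ∧ x ∉ O w), n x * lw x := by
      rw [← Finset.sum_filter_add_sum_filter_not Finset.univ (fun x => x ∈ O w),
        ← Finset.sum_erase_add (Finset.univ.filter fun x => ¬ x ∈ O w) _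
          (Finset.mem_filter.2 ⟨Finset.mem_univ (1 : P), hO1⟩), h1.1, h1.2,
        show (Finset.univ.filter fun x => x ∈ O w) = O w by ext; simp,
        show (Finset.univ.filter fun x => ¬ x ∈ O w).erase 1
          = Finset.univ.filter (fun x => x ≠ 1 ∧ x ∉ O w) by ext; simp]
      ring
    rw [hsplit] at hcount
    have hk3 : Nat.card B * Nat.card T ≤ 3 * Nat.card T := Nat.mul_le_mul_right _ hk
    have hl2 : 2 * Nat.card T ≤ Nat.card T * l := by
      rw [mul_comm 2]; exact Nat.mul_le_mul_left _ (by omega)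
    have hlw0 : n w * (lw w - 1) = 0 := by omega
    have hlw1 : lw w = 1 := by
      rcases Nat.mul_eq_zero.1 hlw0 with h | h
      · omega
      · have := hlw w; omega
    refine ⟨?_, hlw1, fun w' hw' => ?_⟩
    · by_contra hne
      have : 3 * Nat.card T ≤ Nat.card T * l := by
        rw [mul_comm 3]; exact Nat.mul_le_mul_left _ (by omega)
      omega
    · by_contra hnot
      have : 0 < ∑ x ∈ Finset.univ.filter (fun x => x ≠ 1 ∧ x ∉ O w), n x * lw x :=
        Finset.sum_pos' (fun _ _ => Nat.zero_le _)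
          ⟨w', Finset.mem_filter.2 ⟨Finset.mem_univ _, hw', hnot⟩, Nat.mul_pos Nat.card_pos (hlw w')⟩
      omega
  obtain ⟨w, hw⟩ : ∃ w : P, w ≠ 1 := by
    obtain ⟨x, hx, hx1⟩ := P.bot_or_exists_ne_one.resolve_left hP1
    exact ⟨⟨x, hx⟩, fun h => hx1 (congrArg Subtype.val h)⟩
  obtain ⟨hl2, hlw1, htrans⟩ := key w hw
  -- the stabilizer
  haveI : (C.subgroupOf T).Normal := Subgroup.Normal.comap hCn _
  let eT : C.subgroupOf T ≃* C := Subgroup.subgroupOfEquivOfLe hCT
  set θT : C.subgroupOf T → ℂ := (θ : C → ℂ) ∘ eT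
  have hθT : IsIrrCharacter (C.subgroupOf T) θT := IsIrrCharacter.comp_equiv θ.2 eT
  have hinvT : ∀ t : T, conjG θT t = θT := fun t => funext fun k => by
    have h := congrFun ((hTmem t).1 t.2) (eT k)
    rw [conjG_apply] at h ⊢
    exact h
  have hn0 : (overChars (Γ := T) θT).card ≤ 2 := by
    have h := (card_overChars_le_rank hM hB hD hab hPC le_rfl hθker (hcθ ▸ hc))
    have h2 := card_overChars_stab_le θ (hstab ▸ hCT)
    rw [← hl2]
    refine le_trans ?_ (h2.trans h)
    have : ∀ (S : Subgroup G) (hS : C ≤ S), S = T →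
        (overChars (Γ := T) θT).card
          = (overChars (Γ := S) ((θ : C → ℂ) ∘ Subgroup.subgroupOfEquivOfLe hS)).card := by
      rintro S hS rfl; rfl
    exact (this _ _ hstab).le
  -- below `w`
  have hew : ∃ e : ℕ, e ≠ 0 ∧ n w = Nat.card C * e ^ 2 := by
    have hQP : Subgroup.zpowers (w : G) ≤ P := Subgroup.zpowers_le.2 w.2
    have hf := bel_inducedIn hM hmax.1.1 hab w
    set H := cenZ (w : G)
    have hHC : C ≤ H := centralizer_le_centralizer hQP
    have hPH : P ≤ H := le_centralizer_of_abelian hab hQP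
    have hnest := maximal_nested hM hmax hab hQP hf
    have hiff : ∀ x : H, (x : G) ∈ C ↔ x ∈ C.subgroupOf H := fun x => Subgroup.mem_subgroupOf.symm
    haveI : (P.subgroupOf H).Normal := Subgroup.Normal.comap inferInstance _
    haveI : (C.subgroupOf H).Normal := Subgroup.Normal.comap hCn _
    let eH : C.subgroupOf H ≃* C := nestIso hHC hiff
    set θH : IrrCharacter (C.subgroupOf H) := irrEquiv eH θ
    have hPH' : P.subgroupOf H ≤ C.subgroupOf H := fun x hx =>
      Subgroup.mem_subgroupOf.2 (hPC (Subgroup.mem_subgroupOf.1 hx))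
    have hCH' : Subgroup.centralizer ((P.subgroupOf H : Subgroup H) : Set H) ≤ C.subgroupOf H :=
      fun x hx => Subgroup.mem_subgroupOf.2 ((mem_centralizer_subgroupOf_iff hPH x).1 hx)
    have hker' : ∀ x ∈ (P.subgroupOf H).subgroupOf (C.subgroupOf H),
        (θH : C.subgroupOf H → ℂ) x = (θH : C.subgroupOf H → ℂ) 1 := fun x hx => by
      rw [irrEquiv_apply, irrEquiv_apply, map_one]
      exact hθker _ hx
    have hind : IsInducedBlock M (C.subgroupOf H) (blockOf M (θH : C.subgroupOf H → ℂ))
        (bel hM hmax.1.1 w).2 := by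
      have h := (isInducedBlockIn_iff hHC hiff c _ hf.1).2 hf
      rwa [IsPBlock.eq_blockOf hM h.1 (Set.mem_image_of_mem _ hψc)] at h
    have hcard := card_overChars_le_rank hM hf.2.1 (isDefectGroup_of_isMaximal hM hnest)
      (fun x hx y hy => Subtype.ext (hab _ hx _ hy)) hPH' hCH' hker' hind
    replace hcard : (overChars (θH : C.subgroupOf H → ℂ)).card ≤ 1 := hcard.trans hlw1.le
    have hLS : C.subgroupOf H ≤ stab (θH : C.subgroupOf H → ℂ) :=
      le_stab (IsIrrCharacter.isClassFunction θH.2)
    obtain ⟨e, he0, he⟩ := isSquare_relIndex_stab θH hLS hcard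
    refine ⟨e, he0, ?_⟩
    have hSeq : stab (θH : C.subgroupOf H → ℂ) = T.subgroupOf H := by
      ext h
      rw [mem_stab, Subgroup.mem_subgroupOf, hTmem]
      constructor
      · intro hh
        funext k
        obtain ⟨k', rfl⟩ := eH.surjective k
        have h2 := congrFun hh k'
        rw [conjG_apply, irrEquiv_apply, irrEquiv_apply] at h2
        rw [conjG_apply]
        exact h2
      · intro hh
        funext k
        have h2 := congrFun hh (eH k)
        rw [conjG_apply] at h2 ⊢
        rw [irrEquiv_apply, irrEquiv_apply]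
        exact h2
    have hm := Subgroup.card_mul_index ((C.subgroupOf H).subgroupOf (stab (θH : C.subgroupOf H → ℂ)))
    rw [← Subgroup.relIndex, he, Nat.card_congr (Subgroup.subgroupOfEquivOfLe hLS).toEquiv,
      Nat.card_congr eH.toEquiv, hSeq] at hm
    rw [hm]
    refine Nat.card_congr
      { toFun := fun x => ⟨⟨x.1, by
          show x.1 ∈ cenZ (w : G)
          rw [cenZ_eq]
          exact x.2.2⟩, Subgroup.mem_subgroupOf.2 x.2.1⟩
        invFun := fun x => ⟨x.1.1, Subgroup.mem_subgroupOf.1 x.2,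
          (SetLike.ext_iff.1 (cenZ_eq (w : G)) _).1 x.1.2⟩
        left_inv := fun _ => rfl
        right_inv := fun _ => rfl }
  -- the linear group
  set E := φ.range
  let π : T →* E := φ.rangeRestrict
  have hπ : Function.Surjective π := φ.rangeRestrict_surjective
  have hπker : π.ker = C.subgroupOf T := by rw [MonoidHom.ker_rangeRestrict, hker]
  haveI : Fintype E := Fintype.ofFinite _
  have hE : Nat.card E = (C.subgroupOf T).index := by rw [← hker, Subgroup.index_ker]
  have hReg : Regular p E (RegCoset θT π) := by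
    refine ⟨hM.1, hPp, ?_, fun v v' hv hv' => ?_, fun x y hx hy hrx hry => ?_,
      fun x Y hY hxY => ?_, fun s hs => ?_, ?_, ?_⟩
    · rw [hE]; exact not_dvd_relIndex hM hmax hab
    · obtain ⟨t, ht⟩ := (Finset.mem_filter.1 (htrans v hv)).2
      obtain ⟨t', ht'⟩ := (Finset.mem_filter.1 (htrans v' hv')).2
      refine ⟨⟨φ (t' * t⁻¹), t' * t⁻¹, rfl⟩, ?_⟩
      show φ (t' * t⁻¹) v = v'
      rw [map_mul, map_inv, MulAut.mul_apply, ← ht, MulAut.inv_apply_self, ht']
    · exact isConj_of_regCoset hπ hπker hθT hinvT hn0 hx hy hrx hry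
    · exact regCoset_of_cyclic hπ hπker hθT hinvT hY hxY
    · exact even_factorization_or_exists hπ hπker hθT hinvT hs
    · exact exists_sq_add_sq hπ hπker hθT hinvT hn0
    · obtain ⟨e, he0, he⟩ := hew
      refine ⟨e, he0, ?_⟩
      have hOcard : (O w).card = Nat.card P - 1 := by
        rw [show O w = Finset.univ.erase 1 by
          ext x
          refine ⟨fun hx => Finset.mem_erase.2 ⟨fun h0 => ?_, Finset.mem_univ _⟩,
            fun hx => htrans x (Finset.mem_erase.1 hx).1⟩
          obtain ⟨t, ht⟩ := (Finset.mem_filter.1 hx).2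
          exact hw ((φ t).injective ((ht.trans h0).trans (map_one _).symm)),
          Finset.card_erase_of_mem (Finset.mem_univ _), Finset.card_univ, Fintype.card_eq_nat_card]
      have h := (hOsum w).1
      rw [hOcard, he, ← Subgroup.card_mul_index (C.subgroupOf T), ← hE,
        Nat.card_congr eT.toEquiv] at h
      exact (Nat.eq_of_mul_eq_mul_left (Nat.card_pos (α := C)) (by rw [← h]; ring)).symm
  exact card_le_three hReg

end CfsgLib.Blocks.HeightZeroThree
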