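import Cfsg.Agent.Lib.Blocks.HeightZeroThree.Transitive
import Mathlib.GroupTheory.Sylow
import Mathlib.GroupTheory.GroupAction.ConjAct

/-!
# A transitive group with at most one class of regular elements moves at most two points

Every primitive prime divisor of `p ^ n - 1` equals `n + 1` and divides the group order once, which
leaves `p ^ n ∈ {9, 81}` for `n ≥ 2`; both are excluded.
-/

set_option autoImplicit false
set_option maxHeartbeats 1000000
set_option linter.style.haveILetI false
set_option linter.unusedSectionVars false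

namespace CfsgLib.Blocks.HeightZeroThree

open Subgroup
open CfsgLib.LocalEvenB.TransitiveNormal (Irred centralizer_cyclic aut_card_dvd)

universe u

variable {V : Type u} [CommGroup V] [Finite V] {p : ℕ} {E : Subgroup (MulAut V)} {Reg : E → Prop}

theorem card_conj_mul {H : Type*} [Group H] [Finite H] (g : H) :
    Nat.card {x : H // IsConj g x} * Nat.card (centralizer ({g} : Set H)) = Nat.card H := by
  classical
  haveI := Fintype.ofFinite H
  have h1 : Nat.card {x : H // IsConj g x} = Fintype.card (MulAction.orbit (ConjAct H) g) := by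
    rw [← Nat.card_eq_fintype_card]
    refine Nat.card_congr (Equiv.subtypeEquivRight fun x => ?_)
    rw [ConjAct.orbit_eq_carrier_conjClasses, ConjClasses.mem_carrier_iff_mk_eq,
      ConjClasses.mk_eq_mk_iff_isConj]
    exact ⟨IsConj.symm, IsConj.symm⟩
  have h2 : Nat.card (centralizer ({g} : Set H))
      = Fintype.card (MulAction.stabilizer (ConjAct H) g) := by
    rw [← Nat.card_eq_fintype_card]
    refine Nat.card_congr (Equiv.subtypeEquiv ConjAct.toConjAct.toEquiv fun y => ?_)
    rw [mem_centralizer_singleton_iff, MulAction.mem_stabilizer_iff, MulEquiv.toEquiv_eq_coe,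
      EquivLike.coe_coe, ConjAct.toConjAct_smul, mul_inv_eq_iff_eq_mul]
  rw [h1, h2, MulAction.card_orbit_mul_card_stabilizer_eq_card_group, Nat.card_eq_fintype_card]
  exact (Fintype.card_congr ConjAct.toConjAct.toEquiv).symm

theorem orderOf_eq_of_isConj {H : Type*} [Group H] {x y : H} (h : IsConj x y) :
    orderOf x = orderOf y := by
  obtain ⟨c, rfl⟩ := isConj_iff.1 h
  exact ((MulAut.conj c).orderOf_eq x).symm

theorem factorization_eq_one {s m : ℕ} (hs : s.Prime) (hm : m ≠ 0) (h1 : s ∣ m) (h2 : ¬ s ^ 2 ∣ m) :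
    m.factorization s = 1 := by
  have a := (hs.dvd_iff_one_le_factorization hm).1 h1
  have b : ¬ 2 ≤ m.factorization s := fun hc => h2 ((hs.pow_dvd_iff_le_factorization hm).2 hc)
  omega

/-- An element with an irreducible power is regular. -/
theorem reg_of_irred [Nontrivial V] (h : Regular p E Reg) (x : E) (k : ℕ)
    (hi : Irred (zpowers ((x ^ k : E) : MulAut V))) : Reg x := by
  refine h.cyclic x (centralizer ({x ^ k} : Set E)) (isCyclic_centralizer _ hi) fun y hy => ?_
  rw [mem_centralizer_singleton_iff] at hy ⊢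
  exact (Commute.pow_right hy k).eq

/-- In dimension one the group has order at most two. -/
theorem one_dim [Nontrivial V] (h : Regular p E Reg) (hn : Nat.card V = p) : p ≤ 3 := by
  haveI := Fact.mk h.prime
  have hirr : ∀ P : Subgroup (MulAut V), Irred P := fun P K _ => by
    rcases (Nat.dvd_prime h.prime).1 (hn ▸ Subgroup.card_subgroup_dvd_card K) with h1 | h1
    · exact Or.inl (card_eq_one.1 h1)
    · exact Or.inr (eq_top_of_card_eq K (h1.trans hn.symm))
  have hreg : ∀ x : E, Reg x := fun x => reg_of_irred h x 1 (hirr _)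
  haveI hcyc : IsCyclic (centralizer ({(1 : E)} : Set E)) := isCyclic_centralizer _ (hirr _)
  have hcomm : ∀ x y : E, x * y = y * x := fun x y => by
    have h1 : ∀ z : E, z ∈ centralizer ({(1 : E)} : Set E) := fun z =>
      mem_centralizer_singleton_iff.2 (by simp)
    exact congrArg Subtype.val (IsCyclic.commGroup.mul_comm
      (⟨x, h1 x⟩ : centralizer ({(1 : E)} : Set E)) ⟨y, h1 y⟩)
  obtain ⟨e, he0, he⟩ := h.orbit
  by_contra hp
  rw [hn] at he
  have h3 : 3 ≤ Nat.card E := by
    rw [he]; nlinarith [Nat.one_le_pow 2 e (Nat.pos_of_ne_zero he0), show 3 ≤ p - 1 by omega]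
  obtain ⟨x, y, hxy, hx, hy⟩ : ∃ x y : E, x ≠ y ∧ x ≠ 1 ∧ y ≠ 1 := by
    classical
    haveI := Fintype.ofFinite E
    have : 1 < ((Finset.univ : Finset E).erase 1).card := by
      rw [Finset.card_erase_of_mem (Finset.mem_univ _), Finset.card_univ, Fintype.card_eq_nat_card]
      omega
    obtain ⟨x, hx, y, hy, hxy⟩ := Finset.one_lt_card.1 this
    exact ⟨x, y, hxy, (Finset.mem_erase.1 hx).1, (Finset.mem_erase.1 hy).1⟩
  obtain ⟨c, hc⟩ := isConj_iff.1 (h.conj x y hx hy (hreg x) (hreg y))
  exact hxy (by rw [← hc, hcomm c x, mul_inv_cancel_right])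

/-- A primitive prime divisor equals `n + 1`; its elements are self-centralizing. -/
theorem ppd_facts [Nontrivial V] (h : Regular p E Reg) {n : ℕ} (hn : Nat.card V = p ^ n) (hn2 : 2 ≤ n)
    {r : ℕ} (hr : r.Prime) (hdiv : r ∣ p ^ n - 1)
    (hprim : ∀ k : ℕ, 0 < k → k < n → ¬ r ∣ p ^ k - 1) :
    r = n + 1 ∧ (Nat.card E).factorization r = 1 ∧ ∃ g : E, orderOf g = r ∧
      Irred (zpowers (g : MulAut V)) ∧ centralizer ({g} : Set E) = zpowers g ∧
      ∀ x : E, orderOf x = r → IsConj g x := by
  haveI := Fact.mk hr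
  have hirr : ∀ x : E, orderOf x = r → Irred (zpowers (x : MulAut V)) := fun x hx => by
    refine irred_of_order hr hn h.prime hdiv hprim ?_ fun h1 => hr.ne_one ?_
    · rw [← hx, ← Subgroup.coe_pow, pow_orderOf_eq_one, coe_one]
    · rw [← hx, ← Subgroup.orderOf_coe, h1, orderOf_one]
  have hregr : ∀ x : E, orderOf x = r → Reg x := fun x hx =>
    reg_of_irred h x 1 (by rw [pow_one]; exact hirr x hx)
  have hne : ∀ x : E, orderOf x = r → x ≠ 1 := fun x hx h1 =>
    hr.ne_one (by rw [← hx, h1, orderOf_one])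
  obtain ⟨g, hg⟩ := exists_prime_orderOf_dvd_card' (G := E) r
    ((hn ▸ hdiv : r ∣ Nat.card V - 1).trans (card_sub_one_dvd h))
  have hconj : ∀ x : E, orderOf x = r → IsConj g x := fun x hx =>
    h.conj g x (hne g hg) (hne x hx) (hregr g hg) (hregr x hx)
  -- the centralizer of an element of order `r`
  have hcent : ∀ z : E, orderOf z = r → centralizer ({z} : Set E) = zpowers z := by
    intro z hz
    set Y := centralizer ({z} : Set E)
    haveI : IsCyclic Y := isCyclic_centralizer z (hirr z hz)
    have hzY : zpowers z ≤ Y := zpowers_le.2 (mem_centralizer_singleton_iff.2 rfl)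
    obtain ⟨y, hy⟩ := IsCyclic.exists_ofOrder_eq_natCard (α := Y)
    rw [← Subgroup.orderOf_coe] at hy
    have hrY : r ∣ orderOf (y : E) := by
      rw [hy, ← hz, ← Nat.card_zpowers]; exact card_dvd_of_le hzY
    have hpos : 0 < orderOf (y : E) := orderOf_pos _
    have hu : orderOf ((y : E) ^ (orderOf (y : E) / r)) = r :=
      orderOf_pow_orderOf_div hpos.ne' hrY
    have hy1 : (y : E) ≠ 1 := fun h1 => by
      rw [h1, orderOf_one] at hrY; exact hr.not_dvd_one hrY
    have hyr : orderOf (y : E) = r :=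
      ((orderOf_eq_of_isConj (h.conj g _ (hne g hg) hy1 (hregr g hg)
        (reg_of_irred h _ _ (hirr _ hu)))).symm).trans hg
    refine (eq_of_le_of_card_ge hzY ?_).symm
    rw [Nat.card_zpowers, hz, ← hy, hyr]
  -- the Sylow subgroups
  have hv : (Nat.card E).factorization r = 1 := by
    obtain ⟨S⟩ : Nonempty (Sylow r E) := inferInstance
    have hSc := S.card_eq_multiplicity
    have hdvd : r ∣ Nat.card E :=
      hg ▸ orderOf_dvd_natCard g
    have h1 : 1 ≤ (Nat.card E).factorization r :=
      (hr.dvd_iff_one_le_factorization Nat.card_pos.ne').1 hdvd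
    haveI : Nontrivial (S : Subgroup E) := by
      rw [← Finite.one_lt_card_iff_nontrivial, hSc]
      exact Nat.one_lt_pow (by omega) hr.one_lt
    haveI := S.isPGroup'.center_nontrivial
    obtain ⟨m, hm⟩ := IsPGroup.iff_card.1 (S.isPGroup'.to_subgroup (center (S : Subgroup E)))
    have hm0 : m ≠ 0 := fun h0 => by
      have := Finite.one_lt_card_iff_nontrivial.2 (inferInstance : Nontrivial (center (S : Subgroup E)))
      rw [hm, h0, pow_zero] at this; omega
    obtain ⟨z, hz⟩ := exists_prime_orderOf_dvd_card' (G := center (S : Subgroup E)) r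
      (hm ▸ dvd_pow_self r hm0)
    rw [← Subgroup.orderOf_coe, ← Subgroup.orderOf_coe] at hz
    have hle : (S : Subgroup E) ≤ centralizer ({((z : (S : Subgroup E)) : E)} : Set E) := fun x hx =>
      mem_centralizer_singleton_iff.2
        (congrArg Subtype.val (mem_center_iff.1 z.2 ⟨x, hx⟩))
    have hle2 := card_le_of_le hle
    rw [hcent _ hz, Nat.card_zpowers, hz, hSc] at hle2
    have := (Nat.pow_le_pow_iff_right hr.one_lt).1 (hle2.trans (pow_one r).ge)
    omega
  refine ⟨?_, hv, g, hg, hirr g hg, hcent g hg, hconj⟩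
  -- all generators of `⟨g⟩` are conjugate
  have hrn : n + 1 ≤ r := CfsgLib.NT.primitive_gt h.prime.two_le (by omega) hr hdiv hprim
  have hle : r - 1 ≤ n := by
    have hw : ∀ i : Fin (r - 1), orderOf (g ^ ((i : ℕ) + 1)) = r := fun i => by
      rw [orderOf_pow' g (Nat.succ_ne_zero _), hg]
      have : Nat.Coprime r ((i : ℕ) + 1) := hr.coprime_iff_not_dvd.2 fun hd => by
        have := Nat.le_of_dvd (by omega) hd
        have := i.2
        omega
      rw [this.gcd_eq_one, Nat.div_one]
    have hcard := card_roots_le hn h.prime (pow_eq_one h) (hirr g hg)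
      (fun i : Fin (r - 1) => ((g ^ ((i : ℕ) + 1) : E) : MulAut V))
      (fun i j hij => by
        have h1 : g ^ ((i : ℕ) + 1) = g ^ ((j : ℕ) + 1) := Subtype.ext hij
        rw [pow_inj_mod, hg, Nat.mod_eq_of_lt (by omega), Nat.mod_eq_of_lt (by omega)] at h1
        exact Fin.ext (by omega))
      (fun i => by rw [coe_pow]; exact pow_mem (mem_zpowers _) _)
      fun i => by
        obtain ⟨c, hc⟩ := isConj_iff.1 (hconj _ (hw i))
        exact isConj_iff.2 ⟨(c : MulAut V), congrArg Subtype.val hc⟩
    simpa using hcard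
  omega

/-- No such group for nine points. -/
theorem two_three [Nontrivial V] (h : Regular 3 E Reg) (hn : Nat.card V = 9) : False := by
  classical
  haveI := Fact.mk h.prime
  haveI := Fintype.ofFinite V
  obtain ⟨e, he0, he⟩ := h.orbit
  have hdvd : Nat.card E ∣ ∏ i ∈ Finset.range 2, (3 ^ 2 - 3 ^ i) :=
    (Subgroup.card_subgroup_dvd_card E).trans
      (aut_card_dvd (by rw [hn]; norm_num) mul_comm (pow_eq_one h))
  have hE8 : Nat.card E = 8 := by
    have h3 : ¬ 3 ∣ Nat.card E := h.not_dvd
    rw [he, hn] at hdvd h3 ⊢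
    have h6 : e ^ 2 ∣ 6 := by
      have : 8 * e ^ 2 ∣ 8 * 6 := hdvd.trans (by norm_num [Finset.prod_range_succ])
      exact (Nat.mul_dvd_mul_iff_left (by norm_num)).1 this
    have hle := Nat.le_of_dvd (by norm_num) h6
    have : e ≤ 2 := by nlinarith
    interval_cases e <;> simp_all
  -- the action on the nontrivial elements is regular
  obtain ⟨v₀, hv₀⟩ := exists_ne (1 : V)
  have hfree : ∀ x : E, ∀ v : V, v ≠ 1 → (x : MulAut V) v = v → x = 1 := by
    intro x v hv hxv
    let f : E → {w : V // w ≠ 1} := fun y =>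
      ⟨(y : MulAut V) v, fun h1 => hv ((y : MulAut V).injective (h1.trans (map_one _).symm))⟩
    have hs : Function.Surjective f := fun w => by
      obtain ⟨y, hy⟩ := h.trans v w hv w.2
      exact ⟨y, Subtype.ext hy⟩
    have hc : Nat.card {w : V // w ≠ 1} = 8 := by
      rw [Nat.card_eq_fintype_card, Fintype.card_subtype_compl, Fintype.card_subtype_eq,
        Fintype.card_eq_nat_card, hn]
    have hb := (Nat.bijective_iff_surjective_and_card f).2 ⟨hs, hE8.trans hc.symm⟩
    exact hb.1 (Subtype.ext (hxv.trans rfl) : f x = f 1)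
  have hinv : ∀ x : E, orderOf x = 2 → ∀ v : V, (x : MulAut V) v = v⁻¹ := by
    intro x hx v
    have hx2 : x * x = 1 := by rw [← sq, ← hx, pow_orderOf_eq_one]
    by_contra hne
    have h1 : (x : MulAut V) ((x : MulAut V) v * v) = (x : MulAut V) v * v := by
      rw [map_mul, ← MulAut.mul_apply, ← coe_mul, hx2, coe_one, MulAut.one_apply, mul_comm]
    have h2 := hfree x _ (fun h0 => hne (eq_inv_of_mul_eq_one_left h0)) h1
    rw [h2, orderOf_one] at hx
    omega
  obtain ⟨z, hz⟩ := exists_prime_orderOf_dvd_card' (G := E) 2 (by rw [hE8]; norm_num)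
  have huniq : ∀ x : E, orderOf x = 2 → x = z := fun x hx =>
    Subtype.ext (MulEquiv.ext fun v => (hinv x hx v).trans (hinv z hz v).symm)
  have hreg : ∀ y : E, y ≠ 1 → y ≠ z → Reg y := by
    intro y hy hyz
    have ho : orderOf y ∣ 2 ^ 3 := by
      rw [show (2 : ℕ) ^ 3 = Nat.card E by rw [hE8]; norm_num]; exact orderOf_dvd_natCard y
    obtain ⟨j, hj3, hj⟩ := (Nat.dvd_prime_pow Nat.prime_two).1 ho
    have hj2 : 2 ≤ j := by
      by_contra hc
      interval_cases j
      · exact hy (orderOf_eq_one_iff.1 (by simpa using hj))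
      · exact hyz (huniq y (by simpa using hj))
    have hu : orderOf (y ^ 2 ^ (j - 2)) = 4 := by
      rw [orderOf_pow' y (pow_ne_zero _ two_ne_zero), hj,
        Nat.gcd_eq_right (pow_dvd_pow 2 (Nat.sub_le j 2)), Nat.pow_div (Nat.sub_le j 2) two_pos,
        Nat.sub_sub_self hj2]
      norm_num
    refine reg_of_irred h y (2 ^ (j - 2)) ?_
    set u := y ^ 2 ^ (j - 2)
    have hu2 : u ^ 2 = z := huniq _ (by
      rw [orderOf_pow' u two_ne_zero, hu]; norm_num)
    intro K hK
    have hK9 : Nat.card K ∣ 3 ^ 2 := by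
      rw [show (3 : ℕ) ^ 2 = Nat.card V by rw [hn]; norm_num]
      exact Subgroup.card_subgroup_dvd_card K
    obtain ⟨a, ha2, ha⟩ := (Nat.dvd_prime_pow Nat.prime_three).1 hK9
    interval_cases a
    · exact Or.inl (card_eq_one.1 (by simpa using ha))
    · exfalso
      haveI : Nontrivial K := by rw [← Finite.one_lt_card_iff_nontrivial, ha]; norm_num
      obtain ⟨w, hw1⟩ := exists_ne (1 : K)
      have hwK : ∀ c : K, c = 1 ∨ c = w ∨ c = w⁻¹ := by
        intro c
        haveI : Fintype K := Fintype.ofFinite _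
        have hw3 : (w : K) ≠ w⁻¹ := fun h0 => hw1 (by
          have h3 : w ^ 3 = 1 := by
            have := pow_card_eq_one' (x := w); rwa [ha, pow_one] at this
          rw [pow_succ, pow_two] at h3
          rw [eq_inv_iff_mul_eq_one.1 h0, one_mul] at h3
          exact h3)
        have hs : ({1, w, w⁻¹} : Finset K) = Finset.univ := Finset.eq_univ_of_card _ (by
          rw [Finset.card_insert_of_notMem (by simp [hw1, Ne.symm hw1]),
            Finset.card_insert_of_notMem (by simpa using hw3), Finset.card_singleton,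
            Fintype.card_eq_nat_card, ha, pow_one])
        simpa using (hs ▸ Finset.mem_univ c : c ∈ ({1, w, w⁻¹} : Finset K))
      have hwv : (w : V) ≠ 1 := fun h0 => hw1 (Subtype.ext h0)
      have hfix : ((u ^ 2 : E) : MulAut V) w = w := by
        rw [coe_pow, pow_two, MulAut.mul_apply]
        rcases hwK ⟨_, hK (u : MulAut V) (mem_zpowers _) w w.2⟩ with h0 | h0 | h0
        · have h1 : (u : MulAut V) w = 1 := congrArg Subtype.val h0
          exact absurd ((u : MulAut V).injective (h1.trans (map_one _).symm)) hwv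
        · have h1 : (u : MulAut V) w = w := congrArg Subtype.val h0
          rw [h1, h1]
        · have h1 : (u : MulAut V) w = (w : V)⁻¹ := congrArg Subtype.val h0
          rw [h1, map_inv, h1, inv_inv]
      have := hfree _ _ hwv hfix
      rw [hu2] at this
      rw [this, orderOf_one] at hz
      omega
    · exact Or.inr (eq_top_of_card_eq K (by rw [ha, hn]; norm_num))
  -- all six are conjugate
  have hz1 : z ≠ 1 := fun h0 => by rw [h0, orderOf_one] at hz; omega
  haveI := Fintype.ofFinite E
  obtain ⟨y, hy⟩ : (((Finset.univ : Finset E).erase 1).erase z).Nonempty := by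
    rw [← Finset.card_pos, Finset.card_erase_of_mem (Finset.mem_erase.2 ⟨hz1, Finset.mem_univ _⟩),
      Finset.card_erase_of_mem (Finset.mem_univ _), Finset.card_univ, Fintype.card_eq_nat_card]
    omega
  simp only [Finset.mem_erase, Finset.mem_univ, and_true] at hy
  have hset : ∀ x : E, IsConj y x ↔ x ≠ z ∧ x ≠ 1 := by
    intro x
    refine ⟨fun hc => ?_, fun hx => h.conj y x hy.2 hx.2 (hreg y hy.2 hy.1) (hreg x hx.2 hx.1)⟩
    have ho := orderOf_eq_of_isConj hc
    refine ⟨fun h0 => hy.1 (huniq y (by rw [ho, h0, hz])), fun h0 => hy.2 ?_⟩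
    rw [h0, orderOf_one] at ho
    exact orderOf_eq_one_iff.1 ho
  have h6 : Nat.card {x : E // IsConj y x} = 6 := by
    rw [Nat.card_congr (Equiv.subtypeEquivRight hset), Nat.card_eq_fintype_card, Fintype.card_subtype]
    rw [show (Finset.univ.filter fun x : E => x ≠ z ∧ x ≠ 1)
        = ((Finset.univ : Finset E).erase 1).erase z by ext x; simp]
    rw [Finset.card_erase_of_mem (Finset.mem_erase.2 ⟨hz1, Finset.mem_univ _⟩),
      Finset.card_erase_of_mem (Finset.mem_univ _), Finset.card_univ, Fintype.card_eq_nat_card]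
    omega
  have := card_conj_mul y
  rw [h6, hE8] at this
  omega

/-- No such group for eighty-one points. -/
theorem four_three [Nontrivial V] (h : Regular 3 E Reg) (hn : Nat.card V = 81) : False := by
  classical
  haveI := Fact.mk h.prime
  haveI : Fact (Nat.Prime 5) := ⟨by norm_num⟩
  haveI : Fact (Nat.Prime 2) := ⟨Nat.prime_two⟩
  have hn4 : Nat.card V = 3 ^ 4 := by rw [hn]; norm_num
  obtain ⟨-, -, g, hg, hirr, hcent, hconj⟩ := ppd_facts h hn4 (by norm_num) (r := 5) (by norm_num)
    (by norm_num) (fun k hk hk4 => by interval_cases k <;> norm_num)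
  have hC5 : Nat.card (centralizer ({g} : Set E)) = 5 := by rw [hcent, Nat.card_zpowers, hg]
  obtain ⟨e, he0, he⟩ := h.orbit
  -- the order
  have hE : Nat.card E = 320 := by
    have hdvd : Nat.card E ∣ ∏ i ∈ Finset.range 4, (3 ^ 4 - 3 ^ i) :=
      (Subgroup.card_subgroup_dvd_card E).trans (aut_card_dvd hn4 mul_comm (pow_eq_one h))
    have h3 : ¬ 3 ∣ Nat.card E := h.not_dvd
    have hcm := card_conj_mul g
    rw [hC5] at hcm
    -- the class of `g` under `⟨g⟩`
    have hmod : Nat.card {x : E // IsConj g x} ≡ 4 [MOD 5] := by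
      letI : MulAction (zpowers g) {x : E // IsConj g x} :=
        { smul := fun a x => ⟨(a : E) * x.1 * (a : E)⁻¹,
            x.2.trans (isConj_iff.2 ⟨(a : E), rfl⟩)⟩
          one_smul := fun x => Subtype.ext (show ((1 : zpowers g) : E) * x.1 * _⁻¹ = x.1 by simp)
          mul_smul := fun a b x => Subtype.ext
            (show ((a * b : zpowers g) : E) * x.1 * _⁻¹ = (a : E) * ((b : E) * x.1 * (b : E)⁻¹) * (a : E)⁻¹ by
              simp [mul_assoc]) }
      have hP : IsPGroup 5 (zpowers g) := IsPGroup.of_card (n := 1) (by rw [Nat.card_zpowers, hg]; rfl)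
      have := hP.card_modEq_card_fixedPoints {x : E // IsConj g x}
      suffices e2 : Nat.card (MulAction.fixedPoints (zpowers g) {x : E // IsConj g x}) = 4 by
        rwa [e2] at this
      have e1 : MulAction.fixedPoints (zpowers g) {x : E // IsConj g x} ≃
          {x : zpowers g // x ≠ 1} :=
        { toFun := fun x => ⟨⟨x.1.1, by
              have h1 : g * x.1.1 * g⁻¹ = x.1.1 := congrArg Subtype.val (x.2 ⟨g, mem_zpowers g⟩)
              have h2 : x.1.1 ∈ centralizer ({g} : Set E) :=
                mem_centralizer_singleton_iff.2 (mul_inv_eq_iff_eq_mul.1 h1).symm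
              exact (congrArg (fun Y : Subgroup E => x.1.1 ∈ Y) hcent).mp h2⟩, fun h0 => by
              have h1 := orderOf_eq_of_isConj x.1.2
              have h3 : x.1.1 = 1 := congrArg Subtype.val h0
              have h4 : orderOf x.1.1 = 1 := by rw [h3]; exact orderOf_one
              rw [h4, hg] at h1
              omega⟩
          invFun := fun x => ⟨⟨(x.1 : E), hconj _ (by
              rw [Subgroup.orderOf_coe]
              rcases (Nat.dvd_prime (Fact.out : Nat.Prime 5)).1
                ((orderOf_dvd_natCard x.1).trans (by rw [Nat.card_zpowers, hg])) with h0 | h0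
              · exact absurd (orderOf_eq_one_iff.1 h0) x.2
              · exact h0)⟩, fun a => Subtype.ext (by
              obtain ⟨i, hi⟩ := mem_zpowers_iff.1 a.2
              obtain ⟨j, hj⟩ := mem_zpowers_iff.1 x.1.2
              show (a : E) * (x.1 : E) * (a : E)⁻¹ = (x.1 : E)
              rw [← hi, ← hj, ← zpow_add, add_comm, zpow_add, mul_inv_cancel_right])⟩
          left_inv := fun _ => rfl
          right_inv := fun _ => rfl }
      rw [Nat.card_congr e1]
      haveI := Fintype.ofFinite (zpowers g)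
      rw [Nat.card_eq_fintype_card, Fintype.card_subtype_compl, Fintype.card_subtype_eq,
        Fintype.card_eq_nat_card, Nat.card_zpowers, hg]
    rw [he, hn] at hdvd h3 hcm ⊢
    norm_num [Finset.prod_range_succ] at hdvd ⊢
    have h2 : e ^ 2 ∣ 303264 :=
      (Nat.mul_dvd_mul_iff_left (by norm_num : 0 < 80)).1 (by norm_num; exact hdvd)
    have h3' : ¬ 3 ∣ e := fun hd => h3 (dvd_mul_of_dvd_right (dvd_pow hd two_ne_zero) _)
    have hle : e ≤ 550 := by nlinarith [Nat.le_of_dvd (by norm_num) h2]
    have he4 : e ∣ 4 := by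
      have hcop : Nat.Coprime (e ^ 2) (3 ^ 6) :=
        (((Nat.Prime.coprime_iff_not_dvd Nat.prime_three).2 h3').symm).pow 2 6
      have h16 : e ^ 2 ∣ 416 := hcop.dvd_of_dvd_mul_right (by norm_num; exact h2)
      have h13 : ¬ 13 ∣ e := fun hd => absurd ((pow_dvd_pow_of_dvd hd 2).trans h16) (by norm_num)
      have hcop' : Nat.Coprime (e ^ 2) 13 :=
        (((Nat.Prime.coprime_iff_not_dvd (by norm_num)).2 h13).symm).pow_left 2
      have h32 : e ^ 2 ∣ 32 := hcop'.dvd_of_dvd_mul_right (by norm_num; exact h16)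
      have : e ≤ 5 := by nlinarith [Nat.le_of_dvd (by norm_num) h32]
      interval_cases e <;> first | (norm_num; done) | (norm_num at h32)
    have : e ≤ 4 := Nat.le_of_dvd (by norm_num) he4
    have hc : Nat.card {x : E // IsConj g x} = 16 * e ^ 2 := by omega
    rw [hc] at hmod
    clear hdvd h3 hcm he h2 hle hc
    interval_cases e <;> first | (norm_num; done) | (exfalso; revert hmod he4 he0; norm_num [Nat.ModEq])
  -- a normal subgroup of order a power of two
  obtain ⟨S⟩ : Nonempty (Sylow 2 E) := inferInstance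
  set K := (S : Subgroup E).normalCore
  have hK2 : IsPGroup 2 K := S.isPGroup'.to_le (normalCore_le _)
  have hKne : K ≠ ⊥ := by
    intro h0
    have hker : (MulAction.toPermHom E (E ⧸ (S : Subgroup E))).ker = ⊥ :=
      (normalCore_eq_ker _).symm.trans h0
    have hinj := (MonoidHom.ker_eq_bot_iff _).1 hker
    have hidx : Nat.card (E ⧸ (S : Subgroup E)) = 5 := by
      have h1 := card_mul_index (S : Subgroup E)
      rw [S.card_eq_multiplicity, hE, show (320 : ℕ).factorization 2 = 6 by
        rw [show (320 : ℕ) = 2 ^ 6 * 5 by norm_num, Nat.factorization_mul (by norm_num) (by norm_num),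
          Finsupp.add_apply, Nat.Prime.factorization_pow Nat.prime_two, Finsupp.single_eq_same,
          Nat.factorization_eq_zero_of_not_dvd (by norm_num)]] at h1
      rw [← index_eq_card]
      omega
    have := Nat.card_le_card_of_injective _ hinj
    rw [hE, Nat.card_perm, hidx] at this
    norm_num [Nat.factorial] at this
  haveI : Nontrivial K := (nontrivial_iff_ne_bot K).2 hKne
  haveI := hK2.center_nontrivial
  obtain ⟨m, hm⟩ := IsPGroup.iff_card.1 (hK2.to_subgroup (center K))
  have hm0 : m ≠ 0 := fun h0 => by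
    have := Finite.one_lt_card_iff_nontrivial.2 (inferInstance : Nontrivial (center K))
    rw [hm, h0, pow_zero] at this; omega
  obtain ⟨c, hc⟩ := exists_prime_orderOf_dvd_card' (G := center K) 2 (hm ▸ dvd_pow_self 2 hm0)
  let W : Subgroup E :=
    { carrier := {w | w ∈ K ∧ (∀ k ∈ K, w * k = k * w) ∧ w * w = 1}
      one_mem' := ⟨one_mem _, fun k _ => by simp, by simp⟩
      mul_mem' := fun {a b} ha hb => ⟨mul_mem ha.1 hb.1, fun k hk => by
        rw [mul_assoc, hb.2.1 k hk, ← mul_assoc, ha.2.1 k hk, mul_assoc],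
        by rw [mul_assoc, ← mul_assoc b a b, ← ha.2.1 b hb.1, mul_assoc, hb.2.2, mul_one, ha.2.2]⟩
      inv_mem' := fun {a} ha => by rw [inv_eq_of_mul_eq_one_right ha.2.2]; exact ha }
  have hW : ∀ w, w ∈ W ↔ w ∈ K ∧ (∀ k ∈ K, w * k = k * w) ∧ w * w = 1 := fun _ => Iff.rfl
  haveI hKn : K.Normal := normalCore_normal _
  have hWn : ∀ a : E, ∀ w ∈ W, a * w * a⁻¹ ∈ W := by
    intro a w hw
    refine ⟨hKn.conj_mem w hw.1 a, fun k hk => ?_, ?_⟩
    · have h1 := hw.2.1 (a⁻¹ * k * a) (by simpa using hKn.conj_mem k hk a⁻¹)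
      calc a * w * a⁻¹ * k = a * (w * (a⁻¹ * k * a)) * a⁻¹ := by group
        _ = a * ((a⁻¹ * k * a) * w) * a⁻¹ := by rw [h1]
        _ = k * (a * w * a⁻¹) := by group
    · rw [show a * w * a⁻¹ * (a * w * a⁻¹) = a * (w * w) * a⁻¹ by group, hw.2.2, mul_one,
        mul_inv_cancel]
  -- an element of `W` commuting with `g` is trivial
  have hWC : ∀ w ∈ W, w * g = g * w → w = 1 := by
    intro w hw hwg
    have h5 : w ^ 5 = 1 := by
      have : orderOf w ∣ 5 := hC5 ▸ Subgroup.orderOf_dvd_natCard _
        (mem_centralizer_singleton_iff.2 hwg)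
      exact orderOf_dvd_iff_pow_eq_one.1 this
    have h2 : w ^ 2 = 1 := by rw [sq]; exact hw.2.2
    simpa using (pow_gcd_eq_one (m := 5) (n := 2)).2 ⟨h5, h2⟩
  have hW16 : 16 ≤ Nat.card W := by
    letI : MulAction (zpowers g) W :=
      { smul := fun a w => ⟨(a : E) * w.1 * (a : E)⁻¹, hWn _ _ w.2⟩
        one_smul := fun x => Subtype.ext (show ((1 : zpowers g) : E) * x.1 * _⁻¹ = x.1 by simp)
        mul_smul := fun a b x => Subtype.ext
          (show ((a * b : zpowers g) : E) * x.1 * _⁻¹ = (a : E) * ((b : E) * x.1 * (b : E)⁻¹) * (a : E)⁻¹ by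
            simp [mul_assoc]) }
    have hP : IsPGroup 5 (zpowers g) := IsPGroup.of_card (n := 1) (by rw [Nat.card_zpowers, hg]; rfl)
    have hmod := hP.card_modEq_card_fixedPoints W
    have hfix : Nat.card (MulAction.fixedPoints (zpowers g) W) = 1 := by
      refine Nat.card_eq_one_iff_unique.2 ⟨⟨fun a b => ?_⟩, ⟨⟨1, fun a => Subtype.ext ?_⟩⟩⟩
      · have key : ∀ x : MulAction.fixedPoints (zpowers g) W, x.1.1 = 1 := fun x => by
          refine hWC _ x.1.2 ?_
          have h1 : g * x.1.1 * g⁻¹ = x.1.1 := congrArg Subtype.val (x.2 ⟨g, mem_zpowers g⟩)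
          exact (mul_inv_eq_iff_eq_mul.1 h1).symm
        exact Subtype.ext (Subtype.ext ((key a).trans (key b).symm))
      · show (a : E) * 1 * (a : E)⁻¹ = 1
        simp
    rw [hfix] at hmod
    obtain ⟨a, ha⟩ := IsPGroup.iff_card.1 (hK2.to_le fun w (hw : w ∈ W) => hw.1)
    have hne : a ≠ 0 := fun h0 => by
      have hb : W = ⊥ := card_eq_one.1 (by rw [ha, h0, pow_zero])
      have hcW : ((c : K) : E) ∈ W := ⟨(c : K).2, fun k hk =>
        congrArg Subtype.val (mem_center_iff.1 c.2 ⟨k, hk⟩).symm, by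
        have h1 : (c : center K) * c = 1 := by rw [← sq, ← hc, pow_orderOf_eq_one]
        exact congrArg Subtype.val (congrArg Subtype.val h1)⟩
      rw [hb, mem_bot] at hcW
      have : c = 1 := Subtype.ext (Subtype.ext hcW)
      rw [this, orderOf_one] at hc
      omega
    rw [ha] at hmod ⊢
    by_contra hlt
    have : a < 4 := by
      by_contra h4
      exact hlt ((show 16 = 2 ^ 4 by norm_num) ▸ Nat.pow_le_pow_right two_pos (by omega))
    interval_cases a <;> simp [Nat.ModEq] at hmod hne
  -- a common eigenvector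
  have hev : ∀ s : Finset W, ∃ v : V, v ≠ 1 ∧ ∀ w ∈ s,
      ((w : E) : MulAut V) v = v ∨ ((w : E) : MulAut V) v = v⁻¹ := by
    intro s
    induction s using Finset.induction with
    | empty => obtain ⟨v, hv⟩ := exists_ne (1 : V); exact ⟨v, hv, by simp⟩
    | @insert w s _ ih =>
      obtain ⟨v, hv, hs⟩ := ih
      by_cases hvw : ((w : E) : MulAut V) v = v⁻¹
      · exact ⟨v, hv, fun x hx => (Finset.mem_insert.1 hx).elim (fun h0 => h0 ▸ Or.inr hvw) (hs x)⟩
      refine ⟨((w : E) : MulAut V) v * v, fun h0 => hvw (eq_inv_of_mul_eq_one_left h0), fun x hx => ?_⟩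
      rcases Finset.mem_insert.1 hx with rfl | hx
      · left
        rw [map_mul, ← MulAut.mul_apply, ← coe_mul, x.2.2.2, coe_one, MulAut.one_apply, mul_comm]
      · have hxw : ((x : E) : MulAut V) (((w : E) : MulAut V) v)
            = ((w : E) : MulAut V) (((x : E) : MulAut V) v) :=
          congrArg (fun y : E => (y : MulAut V) v) (x.2.2.1 _ w.2.1)
        rw [map_mul, hxw]
        rcases hs x hx with h1 | h1
        · left; rw [h1]
        · right; rw [h1, map_inv, mul_inv_rev, mul_comm]
  haveI := Fintype.ofFinite W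
  obtain ⟨v, hv, hvs⟩ := hev Finset.univ
  set γ : MulAut V := (g : MulAut V)
  let vv : ℕ → V := fun i => (γ ^ i) v
  have hγ5 : γ ^ 5 = 1 := by
    rw [← coe_pow, ← hg, pow_orderOf_eq_one, coe_one]
  have hvv : ∀ (w : W) (i : ℕ), ((w : E) : MulAut V) (vv i) = vv i
      ∨ ((w : E) : MulAut V) (vv i) = (vv i)⁻¹ := by
    intro w i
    have hcj : ((g ^ i)⁻¹ * (w : E) * g ^ i) ∈ W := by
      simpa using hWn (g ^ i)⁻¹ _ w.2
    have e1 : ((w : E) : MulAut V) (vv i)
        = (γ ^ i) ((((g ^ i)⁻¹ * (w : E) * g ^ i : E) : MulAut V) v) := by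
      have h2 : (w : E) * g ^ i = g ^ i * ((g ^ i)⁻¹ * (w : E) * g ^ i) := by group
      have h3 := congrArg (fun y : E => (y : MulAut V) v) h2
      simp only [coe_mul, coe_pow, MulAut.mul_apply] at h3 ⊢
      exact h3
    rcases hvs ⟨_, hcj⟩ (Finset.mem_univ _) with h1 | h1
    · left; rw [e1, show (((g ^ i)⁻¹ * (w : E) * g ^ i : E) : MulAut V) v = v from h1]
    · right; rw [e1, show (((g ^ i)⁻¹ * (w : E) * g ^ i : E) : MulAut V) v = v⁻¹ from h1, map_inv]
  have hstep : ∀ i, γ (vv i) = vv (i + 1) := fun i => by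
    simp only [vv, pow_succ', MulAut.mul_apply]
  have hγne : γ ≠ 1 := fun h0 => by
    have h1 : g = 1 := Subtype.ext h0
    rw [h1, orderOf_one] at hg; omega
  have hgood : ∀ F : Subgroup V, (∀ x ∈ F, γ x ∈ F) → F = ⊥ ∨ F = ⊤ := fun F hF => by
    refine hirr F fun y hy x hx => ?_
    obtain ⟨i, rfl⟩ := (mem_powers_iff_mem_zpowers.2 hy : y ∈ Submonoid.powers γ)
    clear hy
    induction i with
    | zero => simpa using hx
    | succ i ih =>
      show (γ ^ (i + 1)) x ∈ F
      rw [pow_succ', MulAut.mul_apply]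
      exact hF _ ih
  -- the norm is trivial
  have hN : vv 0 * vv 1 * vv 2 * vv 3 * vv 4 = 1 := by
    have h1 : γ (vv 0 * vv 1 * vv 2 * vv 3 * vv 4) = vv 0 * vv 1 * vv 2 * vv 3 * vv 4 := by
      rw [map_mul, map_mul, map_mul, map_mul, hstep, hstep, hstep, hstep, hstep,
        show vv (4 + 1) = vv 0 by simp [vv, hγ5]]
      simp only [show (0 + 1 : ℕ) = 1 from rfl, show (1 + 1 : ℕ) = 2 from rfl,
        show (2 + 1 : ℕ) = 3 from rfl, show (3 + 1 : ℕ) = 4 from rfl]
      ac_rfl
    rcases hgood (MonoidHom.eqLocus γ.toMonoidHom (MonoidHom.id V))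
      (fun x (hx : γ x = x) => show γ (γ x) = γ x from congrArg γ hx) with h0 | h0
    · have : vv 0 * vv 1 * vv 2 * vv 3 * vv 4 ∈ MonoidHom.eqLocus γ.toMonoidHom (MonoidHom.id V) := h1
      rwa [h0, mem_bot] at this
    · exact absurd (MulEquiv.ext fun x => show γ x = x from (h0.ge (mem_top x) :)) hγne
  have hgen : closure (Set.range fun i : Fin 5 => vv i) = ⊤ := by
    refine (hgood _ fun x hx => ?_).resolve_left fun h0 => hv ?_
    · have h1 : (closure (Set.range fun i : Fin 5 => vv i)).map γ.toMonoidHom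
          ≤ closure (Set.range fun i : Fin 5 => vv i) := by
        rw [MonoidHom.map_closure, closure_le]
        rintro _ ⟨_, ⟨i, rfl⟩, rfl⟩
        refine subset_closure ?_
        show γ (vv i) ∈ _
        rw [hstep]
        by_cases h4 : (i : ℕ) + 1 < 5
        · exact ⟨⟨_, h4⟩, rfl⟩
        · refine ⟨0, ?_⟩
          rw [show (i : ℕ) + 1 = 5 by omega]
          simp [vv, hγ5]
      exact h1 ⟨x, hx, rfl⟩
    · have : vv 0 ∈ closure (Set.range fun i : Fin 5 => vv i) := subset_closure ⟨0, rfl⟩
      rw [h0, mem_bot] at this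
      simpa [vv] using this
  have hlast : ∀ (w : MulAut V) (ε : Bool), (∀ i < 4, w (vv i) = if ε then vv i else (vv i)⁻¹) →
      w (vv 4) = if ε then vv 4 else (vv 4)⁻¹ := by
    intro w ε hw
    have h4 : vv 4 = (vv 0 * vv 1 * vv 2 * vv 3)⁻¹ := eq_inv_of_mul_eq_one_right hN
    rw [h4, map_inv, map_mul, map_mul, map_mul, hw 0 (by norm_num), hw 1 (by norm_num),
      hw 2 (by norm_num), hw 3 (by norm_num)]
    cases ε <;> simp [mul_comm, mul_left_comm, mul_assoc]
  let σ : W → (Fin 4 → Bool) := fun w i => decide (((w : E) : MulAut V) (vv i) = vv i)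
  have hσ : Function.Injective σ := by
    intro w w' hww
    have h4 : ∀ i < 4, ((w : E) : MulAut V) (vv i) = ((w' : E) : MulAut V) (vv i) := by
      intro i hi
      have h1 := congrFun hww ⟨i, hi⟩
      simp only [σ, decide_eq_decide] at h1
      rcases hvv w i with a | a
      · rw [a, h1.1 a]
      · rcases hvv w' i with b | b
        · rw [h1.2 b, b]
        · rw [a, b]
    refine Subtype.ext (Subtype.ext (MulEquiv.ext fun x => ?_))
    have hle : closure (Set.range fun i : Fin 5 => vv i) ≤ MonoidHom.eqLocus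
        ((w : E) : MulAut V).toMonoidHom ((w' : E) : MulAut V).toMonoidHom := by
      rw [closure_le]
      rintro _ ⟨i, rfl⟩
      show ((w : E) : MulAut V) (vv i) = ((w' : E) : MulAut V) (vv i)
      rcases Nat.lt_or_ge (i : ℕ) 4 with hi | hi
      · exact h4 _ hi
      · have hi4 : (i : ℕ) = 4 := by omega
        rw [hi4, eq_inv_of_mul_eq_one_right hN, map_inv, map_inv, map_mul, map_mul, map_mul, map_mul,
          map_mul, map_mul, h4 0 (by norm_num), h4 1 (by norm_num), h4 2 (by norm_num),
          h4 3 (by norm_num)]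
    exact hle (hgen ▸ mem_top x)
  have hbij := (Fintype.bijective_iff_injective_and_card σ).2 ⟨hσ, by
    have h1 := Fintype.card_le_of_injective σ hσ
    simp only [Fintype.card_eq_nat_card] at h1 ⊢
    rw [Nat.card_eq_fintype_card (α := Fin 4 → Bool), Fintype.card_fun, Fintype.card_bool,
      Fintype.card_fin] at *
    omega⟩
  obtain ⟨w, hw⟩ := hbij.2 fun _ => false
  have hneg : ∀ i < 4, ((w : E) : MulAut V) (vv i) = (vv i)⁻¹ := by
    intro i hi
    have h1 := congrFun hw ⟨i, hi⟩
    simp only [σ, decide_eq_false_iff_not] at h1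
    exact (hvv w i).resolve_left h1
  have hall : ∀ x, ((w : E) : MulAut V) x = x⁻¹ := by
    intro x
    have hle : closure (Set.range fun i : Fin 5 => vv i) ≤ MonoidHom.eqLocus
        ((w : E) : MulAut V).toMonoidHom (invMonoidHom : V →* V) := by
      rw [closure_le]
      rintro _ ⟨i, rfl⟩
      show ((w : E) : MulAut V) (vv i) = (vv i)⁻¹
      rcases Nat.lt_or_ge (i : ℕ) 4 with hi | hi
      · exact hneg _ hi
      · rw [show (i : ℕ) = 4 by omega]
        simpa using hlast _ false (fun j hj => by simpa using hneg j hj)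
    exact hle (hgen ▸ mem_top x)
  have hw1 : (w : E) = 1 := hWC _ w.2 (Subtype.ext (MulEquiv.ext fun x => by
    show ((w : E) : MulAut V) (γ x) = γ (((w : E) : MulAut V) x)
    rw [hall, hall, map_inv]))
  have h0 := congrFun hw 0
  simp only [σ, hw1, coe_one, MulAut.one_apply, decide_true] at h0
  exact absurd h0 (by simp)

/-- The bound. -/
theorem card_le_three (h : Regular p E Reg) : Nat.card V ≤ 3 := by
  classical
  rcases subsingleton_or_nontrivial V with hsub | hnt
  · rw [Nat.card_unique]; omega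
  haveI := Fact.mk h.prime
  obtain ⟨n, hn⟩ := IsPGroup.iff_card.1 h.pgroup
  have hV : 2 ≤ Nat.card V := Finite.one_lt_card
  have hn0 : n ≠ 0 := fun h0 => by rw [hn, h0, pow_zero] at hV; omega
  rcases Nat.lt_or_ge n 2 with h1 | hn2
  · obtain rfl : n = 1 := by omega
    rw [pow_one] at hn
    exact hn ▸ one_dim h hn
  exfalso
  by_cases h6 : p = 2 ∧ n = 6
  · obtain ⟨rfl, rfl⟩ := h6
    have h7 := even_of_mod_four h hV (s := 7) (by norm_num) (by norm_num)
    rw [hn, factorization_eq_one (by norm_num) (by norm_num) (by norm_num) (by norm_num)] at h7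
    simp at h7
  by_cases hM : n = 2 ∧ ∃ m : ℕ, p + 1 = 2 ^ m
  · obtain ⟨rfl, m, hm⟩ := hM
    by_cases hp3 : p = 3
    · subst hp3
      exact two_three h (by rw [hn]; norm_num)
    have hm3 : 3 ≤ m := by
      by_contra hc
      interval_cases m <;> first
        | omega
        | (have := h.prime.two_le; omega)
    obtain ⟨j, rfl⟩ : ∃ j, m = j + 3 := ⟨m - 3, by omega⟩
    set t := 2 ^ (j + 2) - 1 with ht
    have hpt : p = 2 * t + 1 := by
      rw [ht]; rw [show j + 3 = (j + 2) + 1 by omega, pow_succ] at hm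
      have : 4 ≤ 2 ^ (j + 2) := le_trans (by norm_num) (Nat.pow_le_pow_right two_pos (by omega : 2 ≤ j + 2))
      omega
    have ht4 : t % 4 = 3 := by
      rw [ht, pow_add]
      have := Nat.one_le_pow j 2 two_pos
      omega
    obtain ⟨s, hs, hs4, hodd⟩ : ∃ s, s ∈ t.primeFactors ∧ s % 4 = 3 ∧ ¬ Even (padicValNat s t) := by
      by_contra hc
      push Not at hc
      obtain ⟨a, b, hab⟩ := Nat.eq_sq_add_sq_iff.2 fun q hq hq4 => hc q hq hq4
      have ha := Nat.mod_lt a (show 4 > 0 by norm_num)
      have hb := Nat.mod_lt b (show 4 > 0 by norm_num)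
      rw [hab, Nat.add_mod, Nat.pow_mod, Nat.pow_mod b] at ht4
      interval_cases a % 4 <;> interval_cases b % 4 <;> simp at ht4
    have hsp := Nat.prime_of_mem_primeFactors hs
    haveI := Fact.mk hsp
    have h7 := even_of_mod_four h hV hsp hs4
    have hfac : p ^ 2 - 1 = 2 ^ (j + 4) * t := by
      have h8 : p ^ 2 - 1 = (p + 1) * (p - 1) := by
        simpa using Nat.sq_sub_sq p 1
      rw [h8, hm, hpt, Nat.add_sub_cancel, show j + 4 = (j + 3) + 1 by omega, pow_succ]
      ring
    rw [hn, hfac, Nat.factorization_mul (pow_ne_zero _ two_ne_zero) (by omega), Finsupp.add_apply,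
      Nat.Prime.factorization_pow Nat.prime_two, Finsupp.single_eq_of_ne (by omega), zero_add,
      Nat.factorization_def _ hsp] at h7
    exact hodd h7
  obtain ⟨r, hr, hdiv, hprim⟩ :=
    CfsgLib.NT.exists_primitive_prime h.prime.two_le hn2 h6 hM
  obtain ⟨hrn, hvE, -⟩ := ppd_facts h hn hn2 hr hdiv hprim
  have hV1 : Nat.card V - 1 ≠ 0 := by omega
  have hvV : (Nat.card V - 1).factorization r = 1 := by
    have h1 := (Nat.factorization_le_iff_dvd hV1 Nat.card_pos.ne').2 (card_sub_one_dvd h) r
    have h2 : 1 ≤ (Nat.card V - 1).factorization r :=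
      (hr.dvd_iff_one_le_factorization hV1).1 (hn ▸ hdiv)
    omega
  have hr4 : r % 4 ≠ 3 := fun h3 => by
    have := even_of_mod_four h hV hr h3
    rw [hvV] at this
    simp at this
  have hodd : r % 2 = 1 := Nat.odd_iff.1 (hr.odd_of_ne_two (by omega))
  have hn4 : 4 ≤ n ∧ n % 4 = 0 := by omega
  have hex : (p, n) ∈ CfsgLib.NT.exceptionalPairs := by
    by_contra hex
    obtain ⟨M, hMd, hMc, hMl⟩ := CfsgLib.NT.exists_primitive_divisor_large h.prime.two_le
      (by omega) hex
    have hMr : ∀ s, s.Prime → s ∣ M → s = r := fun s hs hsM => by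
      obtain ⟨ha, hb⟩ := CfsgLib.NT.primitive_of_dvd_primitive_part hs hMd hMc hsM
      rw [(ppd_facts h hn hn2 hs ha hb).1, hrn]
    have hM0 : M ≠ 0 := by omega
    obtain ⟨k, hk⟩ : ∃ k, M = r ^ k :=
      ⟨_, Nat.eq_prime_pow_of_unique_prime_dvd hM0 fun {d} hd hdM => hMr d hd hdM⟩
    have hMeq : M = r ^ M.factorization r := by
      rw [hk, Nat.Prime.factorization_pow hr, Finsupp.single_eq_same]
    have h1 := (Nat.factorization_le_iff_dvd hM0 (hn ▸ hV1)).2 hMd r
    rw [← hn, hvV] at h1
    have h2 : r ^ M.factorization r ≤ r ^ 1 := Nat.pow_le_pow_right hr.pos h1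
    rw [← hMeq, pow_one] at h2
    omega
  have hp := h.prime
  simp only [CfsgLib.NT.exceptionalPairs, List.mem_cons, Prod.mk.injEq, List.not_mem_nil,
    or_false] at hex
  have hkill : ∀ s, s.Prime → s % 4 = 3 → s ∣ p ^ n - 1 → ¬ s ^ 2 ∣ p ^ n - 1 → False :=
    fun s hs h3 ha hb => by
      have h8 := even_of_mod_four h hV hs h3
      rw [hn, factorization_eq_one hs (hn ▸ hV1) ha hb] at h8
      simp at h8
  rcases hex with h | h | h | h | h | h | h | h | h | h | h | h | h <;> obtain ⟨rfl, rfl⟩ := h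
  all_goals first
    | omega
    | (refine hkill 3 ?_ ?_ ?_ ?_ <;> (norm_num; done))
    | (refine hkill 7 ?_ ?_ ?_ ?_ <;> (norm_num; done))
    | exact four_three ‹Regular 3 E Reg› hn

end CfsgLib.Blocks.HeightZeroThree
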