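import Cfsg.Agent.Lib.LocalEvenB.TransitiveNormal
import Cfsg.Agent.NumberTheory.PrimitivePart
import Mathlib.NumberTheory.SumTwoSquares

/-!
# Transitive linear groups with at most one class of regular elements

`E` is a `p'`-group of automorphisms transitive on the nontrivial elements of `V`, with a predicate
modelled on regularity for a cocycle with at most two projective characters.
-/

set_option autoImplicit false
set_option maxHeartbeats 1000000
set_option linter.style.haveILetI false
set_option linter.unusedSectionVars false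

namespace CfsgLib.Blocks.HeightZeroThree

open Subgroup Polynomial
open CfsgLib.LocalEvenB.TransitiveNormal (Irred toEnd toEnd_injective centralizer_cyclic aut_card_dvd)

universe u

variable {V : Type u} [CommGroup V] [Finite V]

/-- The hypotheses on the group and on the predicate `Reg`. -/
structure Regular (p : ℕ) (E : Subgroup (MulAut V)) (Reg : E → Prop) : Prop where
  prime : p.Prime
  pgroup : IsPGroup p V
  not_dvd : ¬ p ∣ Nat.card E
  trans : ∀ v w : V, v ≠ 1 → w ≠ 1 → ∃ e : E, (e : MulAut V) v = w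
  conj : ∀ x y : E, x ≠ 1 → y ≠ 1 → Reg x → Reg y → IsConj x y
  cyclic : ∀ (x : E) (Y : Subgroup E), IsCyclic Y → centralizer ({x} : Set E) ≤ Y → Reg x
  sylow : ∀ s : ℕ, s.Prime →
    (∃ x : E, x ≠ 1 ∧ Reg x ∧ ∃ k : ℕ, orderOf x = s ^ k) ∨ Even ((Nat.card E).factorization s)
  sum_sq : ∃ a b : ℕ, Nat.card E = a ^ 2 + b ^ 2
  orbit : ∃ e : ℕ, e ≠ 0 ∧ Nat.card E = (Nat.card V - 1) * e ^ 2

variable {p : ℕ} {E : Subgroup (MulAut V)} {Reg : E → Prop}

theorem pow_eq_one (h : Regular p E Reg) (v : V) : v ^ p = 1 := by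
  haveI := Fact.mk h.prime
  by_contra hv
  have hv1 : v ≠ 1 := fun h1 => hv (by rw [h1, one_pow])
  obtain ⟨k, hk⟩ := IsPGroup.iff_card.1 h.pgroup
  have hk0 : k ≠ 0 := by
    rintro rfl
    rw [pow_zero] at hk
    haveI : Subsingleton V := (Nat.card_eq_one_iff_unique.1 hk).1
    exact hv1 (Subsingleton.elim _ _)
  obtain ⟨w, hw⟩ := exists_prime_orderOf_dvd_card' (G := V) p (hk ▸ dvd_pow_self p hk0)
  obtain ⟨e, he⟩ := h.trans w v (fun h1 => h.prime.ne_one (by rw [← hw, h1, orderOf_one])) hv1
  exact hv (by rw [← he, ← map_pow, ← hw, pow_orderOf_eq_one, map_one])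

theorem card_sub_one_dvd (h : Regular p E Reg) : (Nat.card V - 1) ∣ Nat.card E := by
  obtain ⟨e, -, he⟩ := h.orbit
  exact ⟨e ^ 2, he⟩

/-- A prime congruent to `3` mod `4` divides `|V| - 1` to an even power. -/
theorem even_of_mod_four (h : Regular p E Reg) (hV : 2 ≤ Nat.card V) {s : ℕ} (hs : s.Prime)
    (hs4 : s % 4 = 3) : Even ((Nat.card V - 1).factorization s) := by
  obtain ⟨a, b, hab⟩ := h.sum_sq
  obtain ⟨e, he0, he⟩ := h.orbit
  haveI := Fact.mk hs
  have hE : (Nat.card E).factorization s = (Nat.card V - 1).factorization s + 2 * e.factorization s := by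
    rw [he, Nat.factorization_mul (by omega) (pow_ne_zero _ he0), Finsupp.add_apply,
      Nat.factorization_pow, Finsupp.smul_apply, smul_eq_mul]
  by_cases hmem : s ∈ (Nat.card E).primeFactors
  · have h1 := (Nat.eq_sq_add_sq_iff.1 ⟨a, b, hab⟩) s hmem hs4
    rw [← Nat.factorization_def _ hs, hE] at h1
    exact (Nat.even_add.1 h1).2 (even_two_mul _)
  · have h1 : (Nat.card E).factorization s = 0 := Finsupp.notMem_support_iff.1 fun h2 => hmem (by
      rwa [Nat.support_factorization] at h2)
    rw [hE] at h1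
    exact ⟨0, by omega⟩

/-- An element all of whose fixed points are trivial modulo a prime. -/
theorem irred_of_order {r : ℕ} (hr : r.Prime) {n : ℕ} (hn : Nat.card V = p ^ n) (hp : p.Prime)
    (hdiv : r ∣ p ^ n - 1) (hprim : ∀ k : ℕ, 0 < k → k < n → ¬ r ∣ p ^ k - 1)
    {x : MulAut V} (hxr : x ^ r = 1) (hx1 : x ≠ 1) : Irred (zpowers x) := by
  classical
  haveI := Fact.mk hr
  have hP : IsPGroup r (zpowers x) := by
    refine IsPGroup.of_card (n := 1) ?_
    rw [Nat.card_zpowers, pow_one, orderOf_eq_prime hxr hx1]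
  have hrp : ¬ r ∣ p := fun hd => by
    have hn0 : 0 < n := Nat.pos_of_ne_zero fun h0 => hx1 (by
      haveI : Subsingleton V := (Nat.card_eq_one_iff_unique.1 (by rw [hn, h0, pow_zero])).1
      exact MulEquiv.ext fun v => Subsingleton.elim _ _)
    exact CfsgLib.NT.primitive_not_dvd_base hp.two_le hn0 hr hdiv hd
  -- the order of an invariant subgroup is congruent to that of its fixed points
  have key : ∀ K : Subgroup V, (∀ e ∈ K, ∀ y ∈ zpowers x, y e ∈ K) → ∀ F : Subgroup V,
      (∀ e, e ∈ F ↔ e ∈ K ∧ x e = e) → ∀ a b : ℕ, Nat.card K = p ^ a → Nat.card F = p ^ b →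
        b ≤ a ∧ r ∣ p ^ (a - b) - 1 := by
    intro K hK F hF a b ha hb
    letI : MulAction (zpowers x) K :=
      { smul := fun y e => ⟨(y : MulAut V) e, hK _ e.2 _ y.2⟩
        one_smul := fun _ => rfl
        mul_smul := fun _ _ _ => rfl }
    have hfix : Nat.card (MulAction.fixedPoints (zpowers x) K) = Nat.card F := by
      refine Nat.card_congr
        { toFun := fun e => ⟨e.1, (hF _).2 ⟨e.1.2, congrArg Subtype.val (e.2 ⟨x, mem_zpowers x⟩)⟩⟩
          invFun := fun e => ⟨⟨e.1, ((hF _).1 e.2).1⟩, fun y => Subtype.ext ?_⟩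
          left_inv := fun _ => rfl
          right_inv := fun _ => rfl }
      obtain ⟨i, hi⟩ := mem_zpowers_iff.1 y.2
      show (y : MulAut V) e.1 = e.1
      rw [← hi]
      have hle : zpowers x ≤ MulAction.stabilizer (MulAut V) (e.1 : V) :=
        zpowers_le.2 ((hF _).1 e.2).2
      exact hle (zpow_mem_zpowers x i)
    have hmod := hP.card_modEq_card_fixedPoints K
    rw [hfix, ha, hb] at hmod
    have hba : b ≤ a := by
      have : F ≤ K := fun e he => ((hF e).1 he).1
      have h1 := card_le_of_le this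
      rw [ha, hb] at h1
      exact (Nat.pow_le_pow_iff_right hp.one_lt).1 h1
    refine ⟨hba, ?_⟩
    have h2 := (Nat.modEq_iff_dvd' (Nat.pow_le_pow_right hp.pos hba)).1 hmod.symm
    rw [show p ^ a - p ^ b = p ^ b * (p ^ (a - b) - 1) by
      rw [Nat.mul_sub, mul_one, ← pow_add, Nat.add_sub_cancel' hba]] at h2
    exact (hr.dvd_mul.1 h2).resolve_left fun h3 => hrp (hr.dvd_of_dvd_pow h3)
  have hpow : ∀ K : Subgroup V, ∃ a, a ≤ n ∧ Nat.card K = p ^ a := fun K =>
    (Nat.dvd_prime_pow hp).1 (hn ▸ Subgroup.card_subgroup_dvd_card K)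
  -- no fixed points
  let F : Subgroup V := MonoidHom.eqLocus x.toMonoidHom (MonoidHom.id V)
  have hF : ∀ e, e ∈ F ↔ x e = e := fun e => Iff.rfl
  obtain ⟨b, hbn, hb⟩ := hpow F
  have hb0 : b = 0 := by
    obtain ⟨-, h1⟩ := key ⊤ (fun _ _ _ _ => trivial) F
      (fun e => (hF e).trans ⟨fun h => ⟨trivial, h⟩, fun h => h.2⟩) n b (by rw [card_top, hn]) hb
    by_contra hne
    rcases hbn.eq_or_lt with rfl | hlt
    · refine hx1 (MulEquiv.ext fun v => (hF v).1 ?_)
      rw [(eq_top_of_card_eq F (hb.trans hn.symm))]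
      trivial
    · exact hprim (n - b) (by omega) (by omega) h1
  intro K hK
  obtain ⟨a, han, ha⟩ := hpow K
  obtain ⟨-, h1⟩ := key K (fun e he y hy => hK y hy e he) (K ⊓ F)
    (fun e => by rw [mem_inf, hF]) a 0 ha (by
      rw [pow_zero, card_eq_one, eq_bot_iff]
      intro e he
      have : F = ⊥ := card_eq_one.1 (by rw [hb, hb0, pow_zero])
      exact this ▸ he.2)
  rcases Nat.eq_zero_or_pos a with rfl | hapos
  · exact Or.inl (card_eq_one.1 (by rw [ha, pow_zero]))
  rcases han.eq_or_lt with rfl | hlt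
  · exact Or.inr (eq_top_of_card_eq K (ha.trans hn.symm))
  · exact absurd h1 (hprim a hapos hlt)

/-- The centralizer in `E` of an element acting irreducibly is cyclic. -/
theorem isCyclic_centralizer [Nontrivial V] (x : E) (hx : Irred (zpowers (x : MulAut V))) :
    IsCyclic (centralizer ({x} : Set E)) := by
  haveI := centralizer_cyclic hx
  have hmem : ∀ y : centralizer ({x} : Set E),
      ((y : E) : MulAut V) ∈ centralizer (zpowers (x : MulAut V) : Set (MulAut V)) := fun y => by
    refine mem_centralizer_iff.2 fun w hw => ?_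
    obtain ⟨i, rfl⟩ := mem_zpowers_iff.1 hw
    exact (Commute.zpow_left (congrArg Subtype.val
      (mem_centralizer_singleton_iff.1 y.2).symm) i).eq
  exact isCyclic_of_injective ((E.subtype.comp (centralizer ({x} : Set E)).subtype).codRestrict _ hmem)
    fun a b hab => Subtype.ext (Subtype.ext (Subtype.ext_iff.1 hab :))

/-- The conjugates among the powers of an irreducible element are at most as many as the dimension. -/
theorem card_roots_le [Nontrivial V] {n : ℕ} (hn : Nat.card V = p ^ n) (hp : p.Prime)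
    (hexp : ∀ v : V, v ^ p = 1) {x : MulAut V} (hx : Irred (zpowers x)) {ι : Type*} [Fintype ι]
    (w : ι → MulAut V) (hw : Function.Injective w) (hcom : ∀ i, w i ∈ zpowers x)
    (hconj : ∀ i, IsConj x (w i)) : Fintype.card ι ≤ n := by
  classical
  haveI := Fact.mk hp
  haveI : Finite (AddMonoid.End (Additive V)) :=
    Finite.of_injective (fun f => (f : Additive V → Additive V)) DFunLike.coe_injective
  let D := Subring.centralizer (toEnd '' (zpowers x : Set (MulAut V)))
  have hinD : ∀ y ∈ zpowers x, toEnd y ∈ D := fun y hy => Subring.mem_centralizer_iff.2 (by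
    rintro _ ⟨z, hz, rfl⟩
    obtain ⟨i, rfl⟩ := mem_zpowers_iff.1 hy
    obtain ⟨j, rfl⟩ := mem_zpowers_iff.1 hz
    rw [← map_mul, ← map_mul, ← zpow_add, ← zpow_add, add_comm])
  have hker : ∀ (f : D) (v : V), v ≠ 1 →
      (f : AddMonoid.End (Additive V)) (Additive.ofMul v) = 0 → f = 0 := by
    intro f v hv h0
    let K : Subgroup V := (AddSubgroup.toSubgroup' (f : AddMonoid.End (Additive V)).ker)
    have hK : ∀ y ∈ zpowers x, ∀ e ∈ K, y e ∈ K := by
      intro y hy e he
      have h1 := DFunLike.congr_fun (Subring.mem_centralizer_iff.1 f.2 _ ⟨y, hy, rfl⟩)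
        (Additive.ofMul e)
      change toEnd y ((f : AddMonoid.End (Additive V)) (Additive.ofMul e)) =
        (f : AddMonoid.End (Additive V)) (Additive.ofMul (y e)) at h1
      change (f : AddMonoid.End (Additive V)) (Additive.ofMul e) = 0 at he
      rw [he, map_zero] at h1
      exact h1.symm
    rcases hx K hK with h | h
    · have : v ∈ K := h0
      rw [h, mem_bot] at this
      exact absurd this hv
    · exact Subtype.ext (AddMonoidHom.ext fun e => (h.ge (mem_top e.toMul) :))
  obtain ⟨v₀, hv₀⟩ := exists_ne (1 : V)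
  haveI : Nontrivial D := ⟨⟨0, 1, fun h => hv₀
    (congrArg Additive.toMul (DFunLike.congr_fun (congrArg Subtype.val h)
      (Additive.ofMul v₀))).symm⟩⟩
  haveI : NoZeroDivisors D := ⟨fun {f g} hfg => by
    rw [or_iff_not_imp_right]
    intro hg
    obtain ⟨v, hv⟩ : ∃ v : Additive V, (g : AddMonoid.End (Additive V)) v ≠ 0 := by
      by_contra hc
      push Not at hc
      exact hg (Subtype.ext (AddMonoidHom.ext hc))
    refine hker f ((g : AddMonoid.End (Additive V)) v).toMul (fun h => hv ?_) ?_
    · exact congrArg Additive.ofMul h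
    · exact DFunLike.congr_fun (congrArg Subtype.val hfg) v⟩
  haveI : IsDomain D := NoZeroDivisors.to_isDomain D
  letI := (Finite.isDomain_to_isField D).toField
  haveI : CharP D p := by
    refine (CharP.charP_iff_prime_eq_zero hp).2 (Subtype.ext (AddMonoidHom.ext fun v => ?_))
    show ((p : D) : AddMonoid.End (Additive V)) v = 0
    rw [show ((p : D) : AddMonoid.End (Additive V)) = (p : AddMonoid.End (Additive V)) from
      map_natCast D.subtype p, AddMonoid.End.natCast_apply]
    exact congrArg Additive.ofMul (hexp v.toMul)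
  letI : Algebra (ZMod p) D := ZMod.algebra D p
  set g : D := ⟨toEnd x, hinD x (mem_zpowers x)⟩
  -- a polynomial of degree at most `n` killed by `g`
  obtain ⟨a, b, hab, he⟩ : ∃ a b : Fin (n + 1) → ZMod p, a ≠ b ∧
      ((aeval g (∑ i, C (a i) * X ^ (i : ℕ)) : D) : AddMonoid.End (Additive V)) (Additive.ofMul v₀)
        = ((aeval g (∑ i, C (b i) * X ^ (i : ℕ)) : D) : AddMonoid.End (Additive V))
            (Additive.ofMul v₀) := by
    haveI := Fintype.ofFinite V
    obtain ⟨a, b, hne, h⟩ := Fintype.exists_ne_map_eq_of_card_lt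
      (fun a : Fin (n + 1) → ZMod p =>
        (((aeval g (∑ i, C (a i) * X ^ (i : ℕ)) : D) : AddMonoid.End (Additive V))
          (Additive.ofMul v₀)).toMul) (by
        rw [Fintype.card_eq_nat_card, hn, Fintype.card_fun, ZMod.card, Fintype.card_fin]
        exact Nat.pow_lt_pow_right hp.one_lt (by omega))
    exact ⟨a, b, hne, congrArg Additive.ofMul h⟩
  set f : (ZMod p)[X] := ∑ i : Fin (n + 1), C ((a - b) i) * X ^ (i : ℕ) with hf
  have hf0 : f ≠ 0 := by
    intro h0
    refine hab (funext fun i => sub_eq_zero.1 ?_)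
    have h1 := congrArg (fun q => q.coeff (i : ℕ)) h0
    simp only [hf, finsetSum_coeff, coeff_C_mul, coeff_X_pow, coeff_zero] at h1
    rw [Finset.sum_eq_single i (fun j _ hj => by
      rw [if_neg (fun h => hj (Fin.ext h.symm)), mul_zero]) (by simp)] at h1
    simpa using h1
  have hfdeg : f.natDegree ≤ n := natDegree_sum_le_of_forall_le _ _ fun i _ =>
    (natDegree_C_mul_X_pow_le _ _).trans (Nat.lt_succ_iff.1 i.2)
  have hg0 : aeval g f = 0 := by
    refine hker _ v₀ hv₀ ?_
    have hsub : f = (∑ i, C (a i) * X ^ (i : ℕ)) - ∑ i, C (b i) * X ^ (i : ℕ) := by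
      rw [hf, ← Finset.sum_sub_distrib]
      exact Finset.sum_congr rfl fun i _ => by rw [Pi.sub_apply, map_sub, sub_mul]
    rw [hsub, map_sub]
    show ((aeval g _ : D) : AddMonoid.End (Additive V)) _ - _ = 0
    exact sub_eq_zero.2 he
  -- its conjugates are roots as well
  let u : ι → D := fun i => ⟨toEnd (w i), hinD _ (hcom i)⟩
  have hroot : ∀ i, aeval (u i) f = 0 := by
    intro i
    obtain ⟨c, hc⟩ := isConj_iff.1 (hconj i)
    refine Subtype.ext ?_
    have hev : ∀ d : D, ((aeval d f : D) : AddMonoid.End (Additive V))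
        = f.sum fun k z => z.val • (d : AddMonoid.End (Additive V)) ^ k := by
      intro d
      rw [aeval_def, eval₂_eq_sum, Polynomial.sum_def, Polynomial.sum_def,
        AddSubmonoidClass.coe_finsetSum]
      refine Finset.sum_congr rfl fun k _ => ?_
      rw [← ZMod.natCast_zmod_val (f.coeff k), map_natCast, ← nsmul_eq_mul,
        ZMod.natCast_zmod_val]
      rfl
    show ((aeval (u i) f : D) : AddMonoid.End (Additive V)) = 0
    have hcx : ((u i : D) : AddMonoid.End (Additive V)) = toEnd c * toEnd x * toEnd c⁻¹ := by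
      rw [← map_mul, ← map_mul, hc]
    have hci : toEnd c⁻¹ * toEnd c = 1 := by rw [← map_mul, inv_mul_cancel, map_one]
    have hpw : ∀ k : ℕ, (toEnd c * toEnd x * toEnd c⁻¹) ^ k
        = toEnd c * toEnd x ^ k * toEnd c⁻¹ := fun k => by
      rw [← map_mul, ← map_mul, ← map_pow, conj_pow, map_mul, map_mul, map_pow]
    calc ((aeval (u i) f : D) : AddMonoid.End (Additive V))
        = toEnd c * ((aeval g f : D) : AddMonoid.End (Additive V)) * toEnd c⁻¹ := by
          rw [hev, hev, Polynomial.sum_def, Polynomial.sum_def, Finset.mul_sum, Finset.sum_mul]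
          refine Finset.sum_congr rfl fun k _ => ?_
          rw [hcx, hpw, mul_smul_comm, smul_mul_assoc]
      _ = 0 := by rw [hg0]; simp
  let fD := f.map (algebraMap (ZMod p) D)
  have hfD : fD ≠ 0 := (Polynomial.map_ne_zero_iff (algebraMap (ZMod p) D).injective).2 hf0
  have hu : Function.Injective u := fun i j hij =>
    hw (toEnd_injective (congrArg Subtype.val hij))
  calc Fintype.card ι = (Finset.univ.image u).card :=
        ((Finset.card_image_of_injective _ hu).trans Finset.card_univ).symm
    _ ≤ fD.natDegree := card_le_degree_of_subset_roots fun z hz => by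
        obtain ⟨i, -, rfl⟩ := Finset.mem_image.1 hz
        refine (mem_roots hfD).2 ?_
        rw [IsRoot.def, eval_map, ← aeval_def]
        exact hroot i
    _ ≤ n := natDegree_map_le.trans hfdeg

end CfsgLib.Blocks.HeightZeroThree
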